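import Cfsg.Agent.EqLemmas
import Mathlib.Tactic

/-!
# Automizer of an elementary abelian Sylow group of order eight: arithmetic

`no_coeffs`: there is no triple of integer coefficient vectors with the scalar products, degree
relations and class multiplication relations found in the case of an automizer of order 21.
-/

set_option autoImplicit false

namespace Cfsg.Agent.EightAutomizer

open Finset

theorem no_solution_paired {A B C P Q : ℤ} (hC : 2 ≤ |C|) (hP : 2 ≤ |P|) (hQ : 2 ≤ |Q|)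
    (h0 : 1 + A + B + C = 0) (h1 : A + B + P + Q = 0)
    (hk : (1 : ℚ) + 9 / A + 9 / B + 1 / C = 9 / A + 9 / B + 1 / P + 1 / Q) : False := by
  have hC0 : (C : ℚ) ≠ 0 := by
    intro h; simp [Int.cast_eq_zero.1 h] at hC
  have hP0 : (P : ℚ) ≠ 0 := by
    intro h; simp [Int.cast_eq_zero.1 h] at hP
  have hQ0 : (Q : ℚ) ≠ 0 := by
    intro h; simp [Int.cast_eq_zero.1 h] at hQ
  have e : (1 : ℚ) + 1 / C = 1 / P + 1 / Q := by linarith
  field_simp at e
  have e' : P * Q * (C + 1) = C * (Q + P) := by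
    have : (P : ℚ) * Q * (C + 1) = C * (Q + P) := by linarith
    exact_mod_cast this
  have hs : Q + P = C + 1 := by linarith
  rw [hs] at e'
  have e'' : (C + 1) * (P * Q - C) = 0 := by linarith
  rcases mul_eq_zero.1 e'' with h | h
  · rw [show C = -1 by omega] at hC
    norm_num at hC
  · have : (P - 1) * (Q - 1) = 0 := by nlinarith
    rcases mul_eq_zero.1 this with h' | h'
    · rw [show P = 1 by omega] at hP; norm_num at hP
    · rw [show Q = 1 by omega] at hQ; norm_num at hQ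

theorem no_solution_split {A B P Q : ℤ} {n : ℕ} (hn : 0 < n) (hA : 2 ≤ |A|) (hB : 2 ≤ |B|)
    (hP : 2 ≤ |P|) (hQ : 2 ≤ |Q|) (h0 : 1 + A + B + B = 0) (h1 : A + B + P + Q = 0)
    (hk0 : (1 : ℚ) + 9 / A + 4 / B + 4 / B = 48 / (7 * n))
    (hk1 : (9 : ℚ) / A + 4 / B + 4 / P + 1 / Q = 48 / (7 * n)) : False := by
  have hA0 : (A : ℚ) ≠ 0 := by
    intro h; simp [Int.cast_eq_zero.1 h] at hA
  have hB0 : (B : ℚ) ≠ 0 := by
    intro h; simp [Int.cast_eq_zero.1 h] at hB
  have hP0 : (P : ℚ) ≠ 0 := by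
    intro h; simp [Int.cast_eq_zero.1 h] at hP
  have hQ0 : (Q : ℚ) ≠ 0 := by
    intro h; simp [Int.cast_eq_zero.1 h] at hQ
  have hn0 : (n : ℚ) ≠ 0 := by positivity
  have e : (1 : ℚ) + 4 / B = 4 / P + 1 / Q := by linarith
  field_simp at e
  have e' : P * Q * (B + 4) = B * (Q * 4 + P) := by
    have : (P : ℚ) * Q * (B + 4) = B * (Q * 4 + P) := by linarith
    exact_mod_cast this
  have hQe : Q = 1 + B - P := by omega
  have hAe : A = -1 - 2 * B := by omega
  subst hQe hAe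
  have hf : (P - B) * ((B + 4) * P - 4 * (1 + B)) = 0 := by nlinarith
  rcases mul_eq_zero.1 hf with h | h
  · rw [show 1 + B - P = 1 by omega] at hQ; norm_num at hQ
  · have hdvd : (B + 4) ∣ 12 := ⟨4 - P, by linarith⟩
    have hb1 : B + 4 ≤ 12 := Int.le_of_dvd (by norm_num) hdvd
    have hb2 : -12 ≤ B + 4 := by
      have := Int.le_of_dvd (show (0 : ℤ) < 12 by norm_num) ((neg_dvd).2 hdvd)
      omega
    have hA' : (1 : ℚ) + 2 * B ≠ 0 := by
      intro h
      exact hA0 (by push_cast; linarith)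
    have hid : (1 : ℚ) + 9 / ((-1 - 2 * B : ℤ) : ℚ) + 4 / B + 4 / B
        = 2 * (B + 2) ^ 2 / (B * (1 + 2 * B)) := by
      push_cast
      rw [show (-1 : ℚ) - 2 * B = -(1 + 2 * B) by ring, div_neg]
      field_simp
      ring
    rw [hid, div_eq_div_iff (mul_ne_zero hB0 hA') (by positivity)] at hk0
    have hk : 24 * B * (1 + 2 * B) = 7 * (n : ℤ) * (B + 2) ^ 2 := by
      have : (24 : ℚ) * B * (1 + 2 * B) = 7 * n * (B + 2) ^ 2 := by linear_combination -(hk0 / 2)
      exact_mod_cast this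
    have hlo : -16 ≤ B := by omega
    have hhi : B ≤ 8 := by omega
    interval_cases B <;> omega

variable {ι : Type*} [Fintype ι] [DecidableEq ι]

theorem abs_le_of_sq_le {z : ℤ} {k : ℕ} (h : z ^ 2 < (k + 1) ^ 2) : |z| ≤ k := by
  have := abs_lt_of_sq_lt_sq h (by positivity)
  omega

/-- The elements other than `o` on which a vector of norm four with value one at `o` is nonzero. -/
theorem norm_four_one {f : ι → ℤ} {o : ι} (ho : f o = 1) (hn : ∑ i, f i * f i = 4) :
    (∀ i, |f i| ≤ 1) ∧ (univ.filter fun i => f i ≠ 0 ∧ i ≠ o).card = 3 := by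
  have hs : ∑ i ∈ univ.erase o, f i * f i = 3 := by
    have := add_sum_erase univ (fun i => f i * f i) (mem_univ o)
    simp only [ho] at this
    omega
  have hb : ∀ i, |f i| ≤ 1 := fun i => by
    by_cases hi : i = o
    · subst hi; simp [ho]
    · have := single_le_sum (f := fun i => f i * f i) (fun j _ => mul_self_nonneg _)
        (mem_erase.2 ⟨hi, mem_univ i⟩)
      refine abs_le_of_sq_le (k := 1) ?_
      simp only [sq]
      norm_num
      omega
  refine ⟨hb, ?_⟩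
  have he : ∀ i ∈ univ.erase o, f i * f i = if f i ≠ 0 then 1 else 0 := fun i _ => by
    have := abs_le.1 (hb i)
    obtain h | h | h : f i = -1 ∨ f i = 0 ∨ f i = 1 := by omega
    all_goals simp [h]
  rw [sum_congr rfl he, sum_boole] at hs
  have : (univ.filter fun i => f i ≠ 0 ∧ i ≠ o) = (univ.erase o).filter (fun i => f i ≠ 0) := by
    ext i; simp [and_comm]
  rw [this]
  exact_mod_cast hs

/-- A vector of norm four orthogonal to positive degrees has four entries `±1`. -/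
theorem norm_four_zero {f : ι → ℤ} {d : ι → ℕ} (hd : ∀ i, 0 < d i) (hn : ∑ i, f i * f i = 4)
    (hz : ∑ i, f i * (d i : ℤ) = 0) :
    (∀ i, |f i| ≤ 1) ∧ (univ.filter fun i => f i ≠ 0).card = 4 := by
  have hb : ∀ i, |f i| ≤ 1 := fun i => by
    have hle := single_le_sum (f := fun i => f i * f i) (fun j _ => mul_self_nonneg _) (mem_univ i)
    have h2 : |f i| ≤ 2 := abs_le_of_sq_le (k := 2) (by simp only [sq]; norm_num; omega)
    by_contra hc
    have hsq : f i * f i = 4 := by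
      have := abs_mul_abs_self (f i)
      rw [show |f i| = 2 by omega] at this
      omega
    have hrest : ∀ j, j ≠ i → f j = 0 := fun j hj => by
      have := add_sum_erase univ (fun i => f i * f i) (mem_univ i)
      have h0 := (sum_eq_zero_iff_of_nonneg (fun j _ => mul_self_nonneg (f j))).1
        (show ∑ j ∈ univ.erase i, f j * f j = 0 by omega) j (mem_erase.2 ⟨hj, mem_univ j⟩)
      exact mul_self_eq_zero.1 h0
    rw [sum_eq_single i (fun j _ hj => by rw [hrest j hj, zero_mul])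
      (fun h => absurd (mem_univ i) h)] at hz
    rcases mul_eq_zero.1 hz with h | h
    · simp [h] at hsq
    · exact (hd i).ne' (by exact_mod_cast h)
  refine ⟨hb, ?_⟩
  have he : ∀ i ∈ univ, f i * f i = if f i ≠ 0 then 1 else 0 := fun i _ => by
    have := abs_le.1 (hb i)
    obtain h | h | h : f i = -1 ∨ f i = 0 ∨ f i = 1 := by omega
    all_goals simp [h]
  rw [sum_congr rfl he, sum_boole] at hn
  exact_mod_cast hn

omit [DecidableEq ι] in
theorem sum_insert_of {s : Finset ι} {f : ι → ℚ} (h : ∀ i ∉ s, f i = 0) :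
    ∑ i, f i = ∑ i ∈ s, f i :=
  (sum_subset (subset_univ s) fun i _ hi => h i hi).symm

omit [DecidableEq ι] in
theorem sum_insert_of' {s : Finset ι} {f : ι → ℤ} (h : ∀ i ∉ s, f i = 0) :
    ∑ i, f i = ∑ i ∈ s, f i :=
  (sum_subset (subset_univ s) fun i _ hi => h i hi).symm

theorem abs_one_or {z : ℤ} (hz : |z| ≤ 1) (hz0 : z ≠ 0) : z = 1 ∨ z = -1 := by
  have := abs_le.1 hz
  omega

/-- A summand of the class multiplication sums. -/
theorem term_eq {z : ℤ} {d : ℕ} {x : ℚ} (k : ℚ) (hz : |z| ≤ 1) (hz0 : z ≠ 0) (hx : x = k * z) :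
    (z : ℚ) * x ^ 2 / d = k ^ 2 / ((z * (d : ℤ) : ℤ) : ℚ) := by
  subst hx
  rcases abs_one_or hz hz0 with h | h <;> subst h <;> push_cast <;> ring

omit [Fintype ι] [DecidableEq ι] in
/-- The signed degrees other than one have absolute value at least two. -/
theorem two_le_signed {o i : ι} {d : ι → ℕ} (hd0 : ∀ i, 0 < d i) (hd1 : ∀ i, d i = 1 → i = o)
    (hi : i ≠ o) {z : ℤ} (hz : |z| ≤ 1) (hz0 : z ≠ 0) : 2 ≤ |z * (d i : ℤ)| := by
  have h2 : 2 ≤ d i := by
    have := hd0 i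
    have : d i ≠ 1 := fun h => hi (hd1 i h)
    omega
  rcases abs_one_or hz hz0 with h | h <;> subst h <;> simp <;> omega

/-- The case in which the two pairs of common constituents differ. -/
theorem no_split {o : ι} {c : ι → ι} (hc : ∀ i, c (c i) = i) {d : ι → ℕ}
    (hd0 : ∀ i, 0 < d i) (hd1 : ∀ i, d i = 1 → i = o) (hdc : ∀ i, d (c i) = d i)
    {n : ℕ} (hn : 0 < n) {m₀ m₁ : ι → ℤ} (hc₀ : ∀ i, m₀ (c i) = m₀ i)
    (hb0 : ∀ i, |m₀ i| ≤ 1) (hb1 : ∀ i, |m₁ i| ≤ 1) {r s e u v : ι}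
    (ro : r ≠ o) (so : s ≠ o) (uo : u ≠ o) (vo : v ≠ o) (huv : u ≠ v)
    (ru : r ≠ u) (rv : r ≠ v) (eu : e ≠ u) (ev : e ≠ v)
    (hrr : c r = r) (hse : c s = e)
    (hr1 : m₁ r = m₀ r) (hs1 : m₁ s = m₀ s) (he1 : m₁ e = 0) (hu0 : m₀ u = 0) (hv0 : m₀ v = 0)
    (nr : m₀ r ≠ 0) (ns : m₀ s ≠ 0) (nu : m₁ u ≠ 0) (nv : m₁ v ≠ 0)
    (cl1 : ∀ i, m₁ i ≠ 0 → i = r ∨ i = s ∨ i = u ∨ i = v)
    (h12 : m₁ r * m₁ (c r) + m₁ s * m₁ (c s) + m₁ u * m₁ (c u) + m₁ v * m₁ (c v) = 2)
    (hz0 : 1 + m₀ r * (d r : ℤ) + m₀ s * (d s : ℤ) + m₀ e * (d e : ℤ) = 0)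
    (hz1 : m₀ r * (d r : ℤ) + m₀ s * (d s : ℤ) + m₁ u * (d u : ℤ) + m₁ v * (d v : ℤ) = 0)
    (hk0 : 1 + (m₀ r : ℚ) * (m₀ r + m₁ r + m₁ (c r)) ^ 2 / d r
      + (m₀ s : ℚ) * (m₀ s + m₁ s + m₁ (c s)) ^ 2 / d s
      + (m₀ e : ℚ) * (m₀ e + m₁ e + m₁ (c e)) ^ 2 / d e = 48 / (7 * n))
    (hk1 : (m₁ r : ℚ) * (m₀ r + m₁ r + m₁ (c r)) ^ 2 / d r
      + (m₁ s : ℚ) * (m₀ s + m₁ s + m₁ (c s)) ^ 2 / d s
      + (m₁ u : ℚ) * (m₀ u + m₁ u + m₁ (c u)) ^ 2 / d u
      + (m₁ v : ℚ) * (m₀ v + m₁ v + m₁ (c v)) ^ 2 / d v = 48 / (7 * n)) : False := by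
  have cinj : ∀ {i j}, c i = c j → i = j := fun {i j} h => by rw [← hc i, h, hc]
  have hes : c e = s := by rw [← hse, hc]
  have mr : m₁ (c r) = m₀ r := by rw [hrr, hr1]
  have ms : m₁ (c s) = 0 := by rw [hse, he1]
  have me : m₁ (c e) = m₀ s := by rw [hes, hs1]
  have hse0 : m₀ e = m₀ s := by rw [← hse, hc₀]
  have hde : d e = d s := by rw [← hse, hdc]
  rw [mr, ms, hr1, hs1] at h12
  have hrr1 : m₀ r * m₀ r = 1 := by
    rcases abs_one_or (hb0 r) nr with h | h <;> simp [h]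
  rw [hrr1, mul_zero] at h12
  have huv12 : m₁ u * m₁ (c u) + m₁ v * m₁ (c v) = 1 := by linarith
  have img : ∀ x, x = u ∨ x = v → m₁ (c x) ≠ 0 → c x = u ∨ c x = v := by
    intro x hx hne
    rcases cl1 _ hne with h | h | h | h
    · have : x = r := cinj (h.trans hrr.symm)
      rcases hx with rfl | rfl
      · exact absurd this ru.symm
      · exact absurd this rv.symm
    · have : x = e := cinj (h.trans hes.symm)
      rcases hx with rfl | rfl
      · exact absurd this eu.symm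
      · exact absurd this ev.symm
    · exact Or.inl h
    · exact Or.inr h
  have hne : ¬ (c u = v) := fun h => by
    rw [h, show c v = u by rw [← h, hc]] at huv12
    rcases abs_one_or (hb1 u) nu with a | a <;> rcases abs_one_or (hb1 v) nv with b | b <;>
      simp [a, b] at huv12
  have hfix : (c u = u ∧ m₁ (c v) = 0) ∨ (c v = v ∧ m₁ (c u) = 0) := by
    by_cases h1 : m₁ (c u) = 0
    · refine Or.inr ⟨?_, h1⟩
      by_cases h2 : m₁ (c v) = 0
      · rw [h1, h2] at huv12; simp at huv12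
      · rcases img v (Or.inr rfl) h2 with h | h
        · exact absurd (show c u = v by rw [← h, hc]) hne
        · exact h
    · rcases img u (Or.inl rfl) h1 with h | h
      · refine Or.inl ⟨h, ?_⟩
        by_contra h2
        rcases img v (Or.inr rfl) h2 with h' | h'
        · exact huv (cinj (h.trans h'.symm))
        · rw [h, h'] at huv12
          rcases abs_one_or (hb1 u) nu with a | a <;> rcases abs_one_or (hb1 v) nv with b | b <;>
            simp [a, b] at huv12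
      · exact absurd h hne
  rw [hse0, hde] at hz0 hk0
  rw [hr1, mr, hs1, ms, he1, me] at hk0
  rw [hr1, mr, hs1, ms, hu0, hv0] at hk1
  rw [term_eq 3 (hb0 r) nr (by push_cast; ring), term_eq 2 (hb0 s) ns (by push_cast; ring),
    term_eq 2 (hb0 s) ns (x := (m₀ s : ℚ) + ((0 : ℤ) : ℚ) + m₀ s) (by push_cast; ring)] at hk0
  rw [term_eq 3 (hb0 r) nr (by push_cast; ring), term_eq 2 (hb0 s) ns (by push_cast; ring)] at hk1
  have A := two_le_signed hd0 hd1 ro (hb0 r) nr
  have B := two_le_signed hd0 hd1 so (hb0 s) ns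
  have U := two_le_signed hd0 hd1 uo (hb1 u) nu
  have V := two_le_signed hd0 hd1 vo (hb1 v) nv
  rcases hfix with ⟨h, h'⟩ | ⟨h, h'⟩
  · rw [h, h', term_eq 2 (hb1 u) nu (by push_cast; ring),
      term_eq 1 (hb1 v) nv (by push_cast; ring)] at hk1
    norm_num only at hk0 hk1
    exact no_solution_split hn A B U V (by linarith) (by linarith)
      (by linear_combination hk0) (by linear_combination hk1)
  · rw [h, h', term_eq 1 (hb1 u) nu (by push_cast; ring),
      term_eq 2 (hb1 v) nv (by push_cast; ring)] at hk1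
    norm_num only at hk0 hk1
    exact no_solution_split hn A B V U (by linarith) (by linarith)
      (by linear_combination hk0) (by linear_combination hk1)

/-- The arithmetic of the exceptional coefficient vectors `m₀`, `m₁` and `m₁ ∘ c`. -/
theorem no_coeffs {o : ι} {c : ι → ι} (hc : ∀ i, c (c i) = i) (hco : c o = o) {d : ι → ℕ}
    (hd0 : ∀ i, 0 < d i) (hd1 : ∀ i, d i = 1 → i = o) (hdo : d o = 1) (hdc : ∀ i, d (c i) = d i)
    {n : ℕ} (hn : 0 < n) {m₀ m₁ : ι → ℤ} (ho₀ : m₀ o = 1) (ho₁ : m₁ o = 0)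
    (hc₀ : ∀ i, m₀ (c i) = m₀ i)
    (h00 : ∑ i, m₀ i * m₀ i = 4) (h11 : ∑ i, m₁ i * m₁ i = 4)
    (h01 : ∑ i, m₀ i * m₁ i = 2) (h12 : ∑ i, m₁ i * m₁ (c i) = 2)
    (hz0 : ∑ i, m₀ i * (d i : ℤ) = 0) (hz1 : ∑ i, m₁ i * (d i : ℤ) = 0)
    (hk0 : ∑ i, (m₀ i : ℚ) * (m₀ i + m₁ i + m₁ (c i)) ^ 2 / d i = 48 / (7 * n))
    (hk1 : ∑ i, (m₁ i : ℚ) * (m₀ i + m₁ i + m₁ (c i)) ^ 2 / d i = 48 / (7 * n)) : False := by
  obtain ⟨hb0, hc3⟩ := norm_four_one ho₀ h00
  obtain ⟨hb1, hc4⟩ := norm_four_zero hd0 h11 hz1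
  set S0 := univ.filter fun i => m₀ i ≠ 0 ∧ i ≠ o with hS0
  set S1 := univ.filter fun i => m₁ i ≠ 0 with hS1
  have m0 : ∀ i, i ∈ S0 ↔ m₀ i ≠ 0 ∧ i ≠ o := by simp [hS0]
  have m1 : ∀ i, i ∈ S1 ↔ m₁ i ≠ 0 := by simp [hS1]
  have val : ∀ {z : ℤ}, |z| ≤ 1 → z = -1 ∨ z = 0 ∨ z = 1 := fun {z} h => by
    have := abs_le.1 h; omega
  -- the common constituents
  have hI : ∑ i ∈ S0 ∩ S1, m₀ i * m₁ i = 2 := by
    rw [← h01]
    refine (sum_insert_of' fun i hi => ?_).symm
    simp only [mem_inter, m0, m1, ne_eq, not_and, not_not, and_imp] at hi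
    by_cases h : m₀ i = 0
    · simp [h]
    · by_cases ho : i = o
      · simp [ho, ho₁]
      · simp [hi h ho]
  have hcard : (S0 ∩ S1).card = 2 ∧ ∀ i ∈ S0 ∩ S1, m₁ i = m₀ i := by
    have hle : (S0 ∩ S1).card ≤ 3 := hc3 ▸ card_le_card inter_subset_left
    have hterm : ∀ i ∈ S0 ∩ S1, m₀ i * m₁ i = 1 - 2 * (if m₁ i = m₀ i then 0 else 1 : ℤ) := by
      intro i hi
      have h0 := ((m0 i).1 (mem_inter.1 hi).1).1
      have h1 := (m1 i).1 (mem_inter.1 hi).2
      rcases val (hb0 i) with a | a | a <;> rcases val (hb1 i) with b | b | b <;>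
        simp [a, b] at h0 h1 ⊢
    rw [sum_congr rfl hterm, sum_sub_distrib, sum_const, nsmul_eq_mul, mul_one, ← mul_sum] at hI
    have hpos : ∀ i ∈ S0 ∩ S1, (0 : ℤ) ≤ if m₁ i = m₀ i then 0 else 1 := fun i _ => by
      split <;> norm_num
    have hzero : ∑ i ∈ S0 ∩ S1, (if m₁ i = m₀ i then 0 else 1 : ℤ) = 0 := by
      have := sum_nonneg hpos
      omega
    refine ⟨by omega, fun i hi => ?_⟩
    have := (sum_eq_zero_iff_of_nonneg hpos).1 hzero i hi
    by_contra hne
    rw [if_neg hne] at this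
    omega
  obtain ⟨hc2, hagree⟩ := hcard
  obtain ⟨r, s, hrs, hI2⟩ := card_eq_two.1 hc2
  obtain ⟨e, he⟩ : ∃ e, S0 \ (S0 ∩ S1) = {e} := card_eq_one.1 (by
    rw [card_sdiff_of_subset inter_subset_left, hc3, hc2])
  obtain ⟨u, v, huv, hR⟩ : ∃ u v, u ≠ v ∧ S1 \ (S0 ∩ S1) = {u, v} := card_eq_two.1 (by
    rw [card_sdiff_of_subset inter_subset_right, hc4, hc2])
  -- membership
  have hr : r ∈ S0 ∧ r ∈ S1 := mem_inter.1 (hI2 ▸ mem_insert_self r {s})
  have hs : s ∈ S0 ∧ s ∈ S1 := mem_inter.1 (hI2 ▸ mem_insert_of_mem (mem_singleton_self s))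
  have he' : e ∈ S0 ∧ e ∉ S1 := by
    have h := (he ▸ mem_singleton_self e : e ∈ S0 \ (S0 ∩ S1))
    simp only [mem_sdiff, mem_inter] at h
    exact ⟨h.1, fun h' => h.2 ⟨h.1, h'⟩⟩
  have hu : u ∈ S1 ∧ u ∉ S0 := by
    have h := (hR ▸ mem_insert_self u {v} : u ∈ S1 \ (S0 ∩ S1))
    simp only [mem_sdiff, mem_inter] at h
    exact ⟨h.1, fun h' => h.2 ⟨h', h.1⟩⟩
  have hv : v ∈ S1 ∧ v ∉ S0 := by
    have h := (hR ▸ mem_insert_of_mem (mem_singleton_self v) : v ∈ S1 \ (S0 ∩ S1))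
    simp only [mem_sdiff, mem_inter] at h
    exact ⟨h.1, fun h' => h.2 ⟨h', h.1⟩⟩
  have cl0 : ∀ i, i ∈ S0 → i = r ∨ i = s ∨ i = e := fun i hi => by
    by_cases h : i ∈ S1
    · have : i ∈ ({r, s} : Finset ι) := hI2 ▸ mem_inter.2 ⟨hi, h⟩
      simp at this; tauto
    · have : i ∈ ({e} : Finset ι) := he ▸ mem_sdiff.2 ⟨hi, fun h' => h (mem_inter.1 h').2⟩
      simp at this; tauto
  have cl1 : ∀ i, i ∈ S1 → i = r ∨ i = s ∨ i = u ∨ i = v := fun i hi => by
    by_cases h : i ∈ S0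
    · have : i ∈ ({r, s} : Finset ι) := hI2 ▸ mem_inter.2 ⟨h, hi⟩
      simp at this; tauto
    · have : i ∈ ({u, v} : Finset ι) := hR ▸ mem_sdiff.2 ⟨hi, fun h' => h (mem_inter.1 h').1⟩
      simp at this; tauto
  have v0 : ∀ i, i ∉ S0 → i ≠ o → m₀ i = 0 := fun i hi ho => by
    by_contra h; exact hi ((m0 i).2 ⟨h, ho⟩)
  have v1 : ∀ i, i ∉ S1 → m₁ i = 0 := fun i hi => by
    by_contra h; exact hi ((m1 i).2 h)
  have cS0 : ∀ i, i ∈ S0 → c i ∈ S0 := fun i hi => by
    rw [m0] at hi ⊢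
    exact ⟨by rw [hc₀]; exact hi.1, fun h => hi.2 (by rw [← hc i, h, hco])⟩
  have cinj : ∀ {i j}, c i = c j → i = j := fun {i j} h => by rw [← hc i, h, hc]
  have ro : r ≠ o := ((m0 r).1 hr.1).2
  have so : s ≠ o := ((m0 s).1 hs.1).2
  have eo : e ≠ o := ((m0 e).1 he'.1).2
  have uo : u ≠ o := fun h => (m1 u).1 hu.1 (h ▸ ho₁)
  have vo : v ≠ o := fun h => (m1 v).1 hv.1 (h ▸ ho₁)
  have ru : r ≠ u := fun h => hu.2 (h ▸ hr.1)
  have rv : r ≠ v := fun h => hv.2 (h ▸ hr.1)
  have su : s ≠ u := fun h => hu.2 (h ▸ hs.1)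
  have sv : s ≠ v := fun h => hv.2 (h ▸ hs.1)
  have re : r ≠ e := fun h => he'.2 (h ▸ hr.2)
  have se : s ≠ e := fun h => he'.2 (h ▸ hs.2)
  have s0 : ∀ i ∉ ({o, r, s, e} : Finset ι), m₀ i = 0 := fun i hi => by
    simp only [mem_insert, mem_singleton, not_or] at hi
    exact v0 i (fun h => by rcases cl0 i h with h' | h' | h' <;> tauto) hi.1
  have s1 : ∀ i ∉ ({r, s, u, v} : Finset ι), m₁ i = 0 := fun i hi => by
    simp only [mem_insert, mem_singleton, not_or] at hi
    exact v1 i (fun h => by rcases cl1 i h with h' | h' | h' | h' <;> tauto)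
  have hr1 : m₁ r = m₀ r := hagree r (mem_inter.2 hr)
  have hs1 : m₁ s = m₀ s := hagree s (mem_inter.2 hs)
  have he1 : m₁ e = 0 := v1 e he'.2
  have hu0 : m₀ u = 0 := v0 u hu.2 uo
  have hv0 : m₀ v = 0 := v0 v hv.2 vo
  rw [sum_insert_of' (s := {o, r, s, e}) fun i hi => by rw [s0 i hi, zero_mul]] at hz0
  rw [sum_insert_of' (s := {r, s, u, v}) fun i hi => by rw [s1 i hi, zero_mul]] at hz1
  rw [sum_insert_of (s := {o, r, s, e}) fun i hi => by simp [s0 i hi]] at hk0
  rw [sum_insert_of (s := {r, s, u, v}) fun i hi => by simp [s1 i hi]] at hk1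
  rw [sum_insert_of' (s := {r, s, u, v}) fun i hi => by rw [s1 i hi, zero_mul]] at h12
  have no1 : o ∉ ({r, s, e} : Finset ι) := by simp [Ne.symm ro, Ne.symm so, Ne.symm eo]
  have no2 : r ∉ ({s, e} : Finset ι) := by simp [hrs, re]
  have no3 : s ∉ ({e} : Finset ι) := by simp [se]
  have no4 : r ∉ ({s, u, v} : Finset ι) := by simp [hrs, ru, rv]
  have no5 : s ∉ ({u, v} : Finset ι) := by simp [su, sv]
  have no6 : u ∉ ({v} : Finset ι) := by simp [huv]
  rw [sum_insert no1, sum_insert no2, sum_insert no3, sum_singleton] at hz0 hk0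
  rw [sum_insert no4, sum_insert no5, sum_insert no6, sum_singleton] at hz1 hk1 h12
  rw [hr1, hs1] at hz1
  simp only [ho₀, ho₁, hdo, hco, Nat.cast_one, Int.cast_one, Int.cast_zero, one_mul, add_zero,
    one_pow, div_one] at hz0 hk0
  have nr := ((m0 r).1 hr.1).1
  have ns := ((m0 s).1 hs.1).1
  have ne' := ((m0 e).1 he'.1).1
  have nu := (m1 u).1 hu.1
  have nv := (m1 v).1 hv.1
  have eu : e ≠ u := fun h => hu.2 (h ▸ he'.1)
  have ev : e ≠ v := fun h => hv.2 (h ▸ he'.1)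
  have cl1' : ∀ i, m₁ i ≠ 0 → i = r ∨ i = s ∨ i = u ∨ i = v := fun i h => cl1 i ((m1 i).2 h)
  by_cases hA : c r = e ∨ c s = e
  · -- the pairs of common constituents differ
    rcases hA with hA | hA
    · have hss : c s = s := by
        rcases cl0 _ (cS0 s hs.1) with h | h | h
        · exact absurd ((show c r = s by rw [← h, hc]).symm.trans hA) se
        · exact h
        · exact absurd (cinj (h.trans hA.symm)) hrs.symm
      exact no_split hc hd0 hd1 hdc hn hc₀ hb0 hb1 so ro uo vo huv su sv eu ev hss hA hs1 hr1 he1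
        hu0 hv0 ns nr nu nv (fun i h => by have := cl1' i h; tauto) (by linarith) (by linarith)
        (by linarith) (by linear_combination hk0) (by linear_combination hk1)
    · have hrr : c r = r := by
        rcases cl0 _ (cS0 r hr.1) with h | h | h
        · exact h
        · exact absurd ((show c s = r by rw [← h, hc]).symm.trans hA) re
        · exact absurd (cinj (h.trans hA.symm)) hrs
      exact no_split hc hd0 hd1 hdc hn hc₀ hb0 hb1 ro so uo vo huv ru rv eu ev hrr hA hr1 hs1 he1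
        hu0 hv0 nr ns nu nv cl1' (by linarith) (by linarith)
        (by linarith) (by linear_combination hk0) (by linear_combination hk1)
  · -- the pairs of common constituents agree
    push Not at hA
    have cr : c r = r ∨ c r = s := by
      rcases cl0 _ (cS0 r hr.1) with h | h | h <;> tauto
    have cs : c s = r ∨ c s = s := by
      rcases cl0 _ (cS0 s hs.1) with h | h | h <;> tauto
    have mr : m₁ (c r) = m₀ r := by
      rw [← hc₀ r]; rcases cr with h | h <;> rw [h]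
      · exact hr1
      · exact hs1
    have ms : m₁ (c s) = m₀ s := by
      rw [← hc₀ s]; rcases cs with h | h <;> rw [h]
      · exact hr1
      · exact hs1
    have ce : c e = e := by
      rcases cl0 _ (cS0 e he'.1) with h | h | h
      · exact absurd (by rw [← h, hc]) hA.1
      · exact absurd (by rw [← h, hc]) hA.2
      · exact h
    rw [mr, ms, hr1, hs1] at h12
    have hrr1 : m₀ r * m₀ r = 1 := by
      rcases val (hb0 r) with h | h | h <;> simp [h] at nr ⊢
    have hss1 : m₀ s * m₀ s = 1 := by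
      rcases val (hb0 s) with h | h | h <;> simp [h] at ns ⊢
    rw [hrr1, hss1] at h12
    have huv12 : m₁ u * m₁ (c u) + m₁ v * m₁ (c v) = 0 := by linarith
    have img : ∀ x, x = u ∨ x = v → m₁ (c x) ≠ 0 → c x = u ∨ c x = v := by
      intro x hx hne
      rcases cl1 _ ((m1 _).2 hne) with h | h | h | h
      · have hx0 : x ∈ S0 := by rw [← hc x, h]; exact cS0 r hr.1
        rcases hx with rfl | rfl
        · exact absurd hx0 hu.2
        · exact absurd hx0 hv.2
      · have hx0 : x ∈ S0 := by rw [← hc x, h]; exact cS0 s hs.1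
        rcases hx with rfl | rfl
        · exact absurd hx0 hu.2
        · exact absurd hx0 hv.2
      · exact Or.inl h
      · exact Or.inr h
    have mu : m₁ (c u) = 0 := by
      by_contra h1
      rcases img u (Or.inl rfl) h1 with h | h
      · rw [h] at huv12
        by_cases h2 : m₁ (c v) = 0
        · rw [h2] at huv12; simp [nu] at huv12
        · rcases img v (Or.inr rfl) h2 with h' | h'
          · exact huv (cinj (h.trans h'.symm))
          · rw [h'] at huv12
            nlinarith [mul_self_pos.2 nu, mul_self_pos.2 nv]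
      · rw [h, show c v = u by rw [← h, hc]] at huv12
        rcases val (hb1 u) with a | a | a <;> rcases val (hb1 v) with b | b | b <;>
          simp [a, b] at huv12 nu nv
    have mv : m₁ (c v) = 0 := by
      rw [mu] at huv12
      simpa [nv] using huv12
    rw [ce, he1, hr1, mr, hs1, ms] at hk0
    rw [hr1, mr, hs1, ms, hu0, hv0, mu, mv] at hk1
    rw [term_eq 3 (hb0 r) nr (by push_cast; ring), term_eq 3 (hb0 s) ns (by push_cast; ring),
      term_eq 1 (hb0 e) ne' (by push_cast; ring)] at hk0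
    rw [term_eq 3 (hb0 r) nr (by push_cast; ring), term_eq 3 (hb0 s) ns (by push_cast; ring),
      term_eq 1 (hb1 u) nu (by push_cast; ring), term_eq 1 (hb1 v) nv (by push_cast; ring)] at hk1
    norm_num only at hk0 hk1
    exact no_solution_paired (A := m₀ r * d r) (B := m₀ s * d s)
      (two_le_signed hd0 hd1 eo (hb0 e) ne') (two_le_signed hd0 hd1 uo (hb1 u) nu)
      (two_le_signed hd0 hd1 vo (hb1 v) nv) (by linarith) (by linarith)
      (by linear_combination hk0 - hk1)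

end Cfsg.Agent.EightAutomizer
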