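import Cfsg.Agent.Lib.SecondMain.Principal
import Cfsg.Agent.Lib.PSolvableBlock.Basic
import Cfsg.Agent.Lib.Codegree.Basic
import Cfsg.Agent.Lib.Char.Orth

/-!
# Sums of characters over the core of the centralizer of a 2-element

For a 2-element `u` with solvable centralizer and `O = O(C(u))`:
* `apply_shift_const` : characters of the principal 2-block are constant on `uO`;
* `sum_shift_eq_zero` : the other characters have sum zero over `uhO`, `h` of odd order in `C(u)`.
-/

set_option autoImplicit false

open scoped ComplexConjugate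

namespace Cfsg.Agent.EightAutomizer

open Cfsg

variable {G : Type*} [Group G] [Finite G] {M : Ideal AlgInt}

theorem isPSolvable_of_solvable_two {H : Type*} [Group H] [Finite H] [Group.IsSolvable H] :
    Solvable.IsPiSeparable {2} H :=
  Solvable.isPiSeparable_of_isSolvable _

theorem sum_normal_shift_eq_zero {H : Type*} [Group H] [Finite H] (χ : IrrCharacter H)
    (N : Subgroup H) [N.Normal] [Fintype N] (hN : ¬ N ≤ Codegree.kerSub χ) (s : H) :
    ∑ m : N, (χ : H → ℂ) (s * (m : H)) = 0 := by
  classical
  haveI := Fintype.ofFinite H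
  obtain ⟨n, ρ, hρ, hχ⟩ := χ.2
  let f : H → ℂ := fun g => if g ∈ N then 1 else 0
  have hf : IsClassFunction H f := fun g h => by
    have hn : N.Normal := inferInstance
    refine if_congr ⟨fun e => ?_, fun e => hn.conj_mem _ e h⟩ rfl rfl
    simpa [mul_assoc] using hn.conj_mem _ e h⁻¹
  have hop := Char.groupSumOp_eq_smul ρ hf
  have h0 : (∑ g, f g * ρ.character g) = 0 := by
    have := Codegree.sum_normal_eq_zero χ N hN
    rw [← this]
    simp only [f, ite_mul, one_mul, zero_mul, hχ]
    rw [← Finset.sum_filter]
    exact Finset.sum_subtype _ (fun x => by simp) _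
  rw [h0, zero_div, zero_smul] at hop
  have hrw : ∑ m : N, (χ : H → ℂ) (s * (m : H))
      = LinearMap.trace ℂ _ (ρ s * Char.groupSumOp ρ f) := by
    simp only [Char.groupSumOp, Finset.mul_sum, mul_smul_comm, ← map_mul, map_sum, map_smul, f,
      ite_smul, one_smul, zero_smul, smul_eq_mul, ite_mul, one_mul, zero_mul, mul_zero, apply_ite, map_zero]
    rw [← Finset.sum_filter, ← hχ]
    exact (Finset.sum_subtype (Finset.univ.filter fun x => x ∈ N) (fun x => by simp)
      fun a => LinearMap.trace ℂ (Fin n → ℂ) (ρ (s * a))).symm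
  rw [hrw, hop, mul_zero, map_zero]

/-- Characters of the principal block are constant on `uO(C(u))`. -/
theorem apply_shift_const (hM : IsPModular 2 M) {u : G} (hu : ∃ k, orderOf u = 2 ^ k)
    (hC : Group.IsSolvable (Subgroup.centralizer ({u} : Set G))) {χ : IrrCharacter G}
    (hχ : χ ∈ principalBlock M G) {y : G} (hy : y ∈ centralizerPPrimeCore 2 u) :
    (χ : G → ℂ) (u * y) = (χ : G → ℂ) u := by
  haveI : Fact (Nat.Prime 2) := ⟨Nat.prime_two⟩
  haveI := hC
  classical
  let H := Subgroup.centralizer ({u} : Set G)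
  have hH : ∀ g, g ∈ H ↔ Commute u g := fun _ => SecondMain.commute_iff_mem_centralizer_singleton
  have := Fintype.ofFinite H
  obtain ⟨y, hy', rfl⟩ := hy
  have hreg : ¬ 2 ∣ orderOf y := fun h =>
    Cores.not_dvd_card_pPrimeCore (p := 2) (G := H)
      (h.trans (Subgroup.orderOf_dvd_natCard _ hy'))
  have h1reg : ¬ 2 ∣ orderOf (1 : H) := by simp
  have hB0 : IsPBlock M (principalBlock M G) := BrauerPairs.isPBlock_principal
  have hs := SecondMain.sum_induced_shift_of_mem hM hu hH hB0 hχ hreg
  have h1 := SecondMain.sum_induced_shift_of_mem hM hu hH hB0 hχ h1reg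
  rw [SecondMain.inducedSet_principal hM hu hH, finsum_mem_singleton,
    SecondMain.blockPart_apply] at hs h1
  rw [Subgroup.coe_one, mul_one] at h1
  show (χ : G → ℂ) (u * (y : G)) = _
  rw [← hs, ← h1]
  exact finsum_mem_congr rfl fun η hη => by
    rw [(PSolvableBlock.mem_principal_iff_of_separable hM isPSolvable_of_solvable_two η).1 hη y hy']

/-- The other characters have sum zero over `uhO(C(u))`. -/
theorem sum_shift_eq_zero (hM : IsPModular 2 M) {u : G} (hu : ∃ k, orderOf u = 2 ^ k)
    (hC : Group.IsSolvable (Subgroup.centralizer ({u} : Set G))) {χ : IrrCharacter G}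
    (hχ : χ ∉ principalBlock M G) {h : G} (hcomm : Commute u h) (hh : ¬ 2 ∣ orderOf h)
    [Fintype (centralizerPPrimeCore 2 u)] :
    ∑ y : centralizerPPrimeCore 2 u, (χ : G → ℂ) (u * h * (y : G)) = 0 := by
  haveI : Fact (Nat.Prime 2) := ⟨Nat.prime_two⟩
  haveI := hC
  classical
  let H := Subgroup.centralizer ({u} : Set G)
  have hH : ∀ g, g ∈ H ↔ Commute u g := fun _ => SecondMain.commute_iff_mem_centralizer_singleton
  have := Fintype.ofFinite H
  have := Fintype.ofFinite (IrrCharacter H)
  let O := pPrimeCore 2 H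
  have := Fintype.ofFinite O
  haveI hOn : O.Normal := Cores.pPrimeCore_normal 2 H
  let θ : H → ℂ := fun c => (χ : G → ℂ) (u * (c : G))
  have hθ : IsClassFunction H θ :=
    SecondMain.isClassFunction_shift (fun h hh => (hH h).mp hh) (Blocks.irr_class χ)
  let s : H := ⟨h, (hH h).mpr hcomm⟩
  have hs : ¬ 2 ∣ orderOf s := by rwa [← Subgroup.orderOf_coe]
  have hb : IsInducedBlock M H (principalBlock M H) (principalBlock M G) := by
    have h := SecondMain.inducedSet_principal hM hu hH
    exact (h ▸ Set.mem_singleton _ :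
      principalBlock M H ∈ SecondMain.inducedSet M H (principalBlock M G))
  have h0 := SecondMain.blockPart_shift_eq_zero hM hu hH hb hχ hs
  rw [SecondMain.blockPart_apply] at h0
  have hterm : ∀ η : IrrCharacter H, ∑ y : O, (η : H → ℂ) (s * (y : H))
      = (Nat.card O : ℂ) *
        Set.indicator (principalBlock M H) (fun η => (η : H → ℂ) s) η := by
    intro η
    by_cases hη : η ∈ principalBlock M H
    · have hk := (PSolvableBlock.mem_principal_iff_of_separable hM isPSolvable_of_solvable_two η).1 hη
      obtain ⟨ψ, hψ⟩ := CentralChar.exists_deflation O η hk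
      rw [Set.indicator_of_mem hη, Finset.sum_congr rfl (fun y _ => ?_), Finset.sum_const,
        Finset.card_univ, nsmul_eq_mul, Nat.card_eq_fintype_card]
      rw [hψ, hψ]
      congr 1
      rw [QuotientGroup.mk_mul, (QuotientGroup.eq_one_iff (y : H)).2 y.2, mul_one]
    · rw [Set.indicator_of_notMem hη, mul_zero]
      have hne : ¬ O ≤ Codegree.kerSub η := fun hle => hη
        ((PSolvableBlock.mem_principal_iff_of_separable hM isPSolvable_of_solvable_two η).2
          fun a ha => Codegree.mem_kerSub.1 (hle ha))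
      exact sum_normal_shift_eq_zero η O hne s
  have hsum : ∑ y : O, θ (s * (y : H)) = 0 := by
    conv_lhs => rw [Char.classFunction_eq_sum hθ]
    simp only [Finset.sum_apply, Pi.smul_apply, smul_eq_mul]
    rw [Finset.sum_comm]
    simp only [← Finset.mul_sum, hterm]
    rw [← mul_zero (Nat.card O : ℂ), ← h0, finsum_mem_def, finsum_eq_sum_of_fintype, Finset.mul_sum]
    refine Finset.sum_congr rfl fun η _ => ?_
    by_cases hη : η ∈ principalBlock M H
    · rw [Set.indicator_of_mem hη, Set.indicator_of_mem hη]; ring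
    · rw [Set.indicator_of_notMem hη, Set.indicator_of_notMem hη]; ring
  refine Eq.trans (Finset.sum_nbij' (fun y => (Subgroup.equivMapOfInjective O H.subtype
    H.subtype_injective).symm y) (fun y => Subgroup.equivMapOfInjective O H.subtype
    H.subtype_injective y) (fun _ _ => Finset.mem_univ _) (fun _ _ => Finset.mem_univ _)
    (fun _ _ => MulEquiv.apply_symm_apply _ _) (fun _ _ => MulEquiv.symm_apply_apply _ _) ?_) hsum
  intro y _
  obtain ⟨z, rfl⟩ := (Subgroup.equivMapOfInjective O H.subtype H.subtype_injective).surjective y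
  simp only [MulEquiv.symm_apply_apply, θ, s, Subgroup.coe_mul]
  rw [← mul_assoc]
  congr 2

end Cfsg.Agent.EightAutomizer
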