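import Cfsg.Agent.Lib.Char.Induced
import Cfsg.Agent.Lib.Char.Virtual
import Cfsg.Agent.Lib.Char.Orth
import Mathlib.GroupTheory.FiniteAbelian.Duality
import Mathlib.GroupTheory.Transfer
import Mathlib.Analysis.Complex.Polynomial.Basic
import Mathlib.RingTheory.RootsOfUnity.AlgebraicallyClosed

/-!
# The group of order 168 with a self-centralizing normal elementary subgroup of order eight

For such a group `Q`, an involution `t` of `V` and `Y = C(t)`: linear characters `ε`, `θ` of `Y`,
the class functions `ψ k = Ind ((1 - ε) θ ^ k)` and their scalar products.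
-/

set_option autoImplicit false

open scoped ComplexConjugate

namespace Cfsg.Agent.EightAutomizer

open Cfsg

/-- `Q` has order 168 and `V` is a self-centralizing normal elementary subgroup of order eight
with all nonidentity elements conjugate to `t`. -/
structure QData {Q : Type*} [Group Q] (V : Subgroup Q) (t : Q) : Prop where
  card : Nat.card Q = 168
  cardV : Nat.card V = 8
  normal : V.Normal
  sq : ∀ v ∈ V, v * v = 1
  self : ∀ q : Q, (∀ v ∈ V, q * v = v * q) → q ∈ V
  mem : t ∈ V
  ne : t ≠ 1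
  trans : ∀ v ∈ V, v ≠ 1 → ∃ q : Q, q * t * q⁻¹ = v

variable {Q : Type*} [Group Q] [Finite Q] {V : Subgroup Q} {t : Q}

/-- The centralizer of `t`. -/
abbrev Y (t : Q) : Subgroup Q := Subgroup.centralizer ({t} : Set Q)

namespace QData

omit [Finite Q] in
theorem comm (h : QData V t) {v w : Q} (hv : v ∈ V) (hw : w ∈ V) : v * w = w * v := by
  have e1 := h.sq v hv
  have e2 := h.sq w hw
  have e3 := h.sq (v * w) (V.mul_mem hv hw)
  calc v * w = v * (v * w * (v * w)) * w := by rw [e3, mul_one]
    _ = (v * v) * (w * v) * (w * w) := by group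
    _ = w * v := by rw [e1, e2, one_mul, mul_one]

omit [Finite Q] in
theorem mem_Y {q : Q} : q ∈ Y t ↔ q * t = t * q := Subgroup.mem_centralizer_singleton_iff

omit [Finite Q] in
theorem le_Y (h : QData V t) : V ≤ Y t := fun _ hv => mem_Y.2 (h.comm hv h.mem)

omit [Finite Q] in
theorem t_mem_Y : t ∈ Y t := mem_Y.2 rfl

omit [Finite Q] in
theorem class_eq (h : QData V t) : {x : Q | IsConj t x} = {x : Q | x ∈ V ∧ x ≠ 1} := by
  ext x
  simp only [Set.mem_ofPred_eq, isConj_iff]
  constructor
  · rintro ⟨c, rfl⟩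
    exact ⟨h.normal.conj_mem t h.mem c, fun e => h.ne (by simpa using e)⟩
  · rintro ⟨hx, hx1⟩
    exact h.trans x hx hx1

theorem card_nontrivial (h : QData V t) : Nat.card {x : Q | x ∈ V ∧ x ≠ 1} = 7 := by
  classical
  have := Fintype.ofFinite V
  have e : {x : Q | x ∈ V ∧ x ≠ 1} ≃ {v : V // v ≠ 1} :=
    { toFun := fun x => ⟨⟨x.1, x.2.1⟩, fun e => x.2.2 (congrArg Subtype.val e)⟩
      invFun := fun v => ⟨v.1.1, v.1.2, fun e => v.2 (Subtype.ext e)⟩
      left_inv := fun _ => rfl
      right_inv := fun _ => rfl }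
  rw [Nat.card_congr e, Nat.card_eq_fintype_card, Fintype.card_subtype_compl,
    Fintype.card_subtype_eq, ← Nat.card_eq_fintype_card, h.cardV]

theorem card_Y (h : QData V t) : Nat.card (Y t) = 24 := by
  have := Char.card_conjugates_mul_card_centralizer t
  rw [h.class_eq, h.card_nontrivial, h.card] at this
  have h' : 7 * Nat.card (Y t) = 168 := this
  omega

/-- The subgroup `V` of `Y`. -/
abbrev VY (V : Subgroup Q) (t : Q) : Subgroup (Y t) := V.subgroupOf (Y t)

omit [Finite Q] in
theorem card_VY (h : QData V t) : Nat.card (VY V t) = 8 := by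
  rw [Nat.card_congr (Subgroup.subgroupOfEquivOfLe h.le_Y).toEquiv, h.cardV]

theorem index_VY (h : QData V t) : (VY V t).index = 3 := by
  have := (VY V t).index_mul_card
  rw [h.card_VY, h.card_Y] at this
  omega

/-- A linear character of `Y` with kernel `V`. -/
theorem exists_theta (h : QData V t) :
    ∃ θ : Y t →* ℂ, (∀ y : Y t, θ y ^ 3 = 1) ∧ ∀ y : Y t, θ y = 1 ↔ (y : Q) ∈ V := by
  classical
  haveI : V.Normal := h.normal
  haveI : (VY V t).Normal := Subgroup.Normal.subgroupOf h.normal _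
  let Z := Y t ⧸ VY V t
  have hcard : Nat.card Z = 3 := h.index_VY
  haveI : Fact (Nat.Prime 3) := ⟨Nat.prime_three⟩
  haveI : IsCyclic Z := isCyclic_of_prime_card hcard
  letI : CommGroup Z := IsCyclic.commGroup
  obtain ⟨z, hz⟩ : ∃ z : Z, z ≠ 1 := by
    by_contra! hall
    have : Subsingleton Z := ⟨fun a b => (hall a).trans (hall b).symm⟩
    rw [Nat.card_unique] at hcard
    omega
  obtain ⟨χ, hχ⟩ := CommGroup.exists_apply_ne_one_of_hasEnoughRootsOfUnity Z ℂ hz
  refine ⟨(Units.coeHom ℂ).comp (χ.comp (QuotientGroup.mk' _)), fun y => ?_, fun y => ?_⟩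
  · have : (QuotientGroup.mk' (VY V t) y) ^ 3 = 1 := by rw [← hcard]; exact pow_card_eq_one'
    rw [← map_pow, MonoidHom.comp_apply, MonoidHom.comp_apply, map_pow, this, map_one, map_one]
  · haveI : Fact (Nat.card Z).Prime := ⟨hcard ▸ Nat.prime_three⟩
    have hker : χ.ker = ⊥ := by
      rcases χ.ker.eq_bot_or_eq_top_of_prime_card with e | e
      · exact e
      · exact absurd (MonoidHom.mem_ker.1 (e ▸ Subgroup.mem_top z)) hχ
    simp only [MonoidHom.comp_apply, Units.coeHom_apply, Units.val_eq_one]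
    rw [← MonoidHom.mem_ker, hker, Subgroup.mem_bot, QuotientGroup.mk'_apply,
      QuotientGroup.eq_one_iff, Subgroup.mem_subgroupOf]

/-- A linear character of `Y` with value `-1` at `t`. -/
theorem exists_eps (h : QData V t) :
    ∃ ε : Y t →* ℂ, (∀ y : Y t, ε y = 1 ∨ ε y = -1) ∧ ε ⟨t, t_mem_Y⟩ = -1 := by
  classical
  letI : CommGroup (VY V t) :=
    { (inferInstance : Group (VY V t)) with
      mul_comm := fun a b => Subtype.ext (Subtype.ext (h.comm a.2 b.2)) }
  let t' : VY V t := ⟨⟨t, t_mem_Y⟩, h.mem⟩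
  have ht' : t' ≠ 1 := fun e => h.ne (congrArg (fun x : VY V t => ((x : Y t) : Q)) e)
  obtain ⟨χ, hχ⟩ := CommGroup.exists_apply_ne_one_of_hasEnoughRootsOfUnity (VY V t) ℂ ht'
  have hval : ∀ v : VY V t, (χ v : ℂ) = 1 ∨ (χ v : ℂ) = -1 := fun v => by
    have : v * v = 1 := Subtype.ext (Subtype.ext (h.sq _ v.2))
    have h2 : (χ v : ℂ) * χ v = 1 := by rw [← Units.val_mul, ← map_mul, this, map_one]; rfl
    exact mul_self_eq_one_iff.1 h2
  refine ⟨(Units.coeHom ℂ).comp (MonoidHom.transfer χ), fun y => ?_, ?_⟩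
  · have h2 : MonoidHom.transfer χ y * MonoidHom.transfer χ y = 1 := by
      let sq : ℂˣ →* ℂˣ := powMonoidHom 2
      have e1 : MonoidHom.transfer (sq.comp χ) = sq.comp (MonoidHom.transfer χ) := by
        ext g
        simp [MonoidHom.transfer, Subgroup.leftTransversals.diff, sq]
      have e2 : sq.comp χ = 1 := by
        ext v
        rcases hval v with e | e <;> simp [sq, e]
      have e3 := DFunLike.congr_fun e1 y
      rw [e2] at e3
      have e4 : MonoidHom.transfer (1 : VY V t →* ℂˣ) y = 1 := by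
        simp [MonoidHom.transfer, Subgroup.leftTransversals.diff]
      rw [e4] at e3
      rw [← pow_two]
      exact e3.symm
    have h3 : ((MonoidHom.transfer χ y : ℂˣ) : ℂ) * (MonoidHom.transfer χ y : ℂˣ) = 1 := by
      rw [← Units.val_mul, h2, Units.val_one]
    exact mul_self_eq_one_iff.1 h3
  · have key : ∀ (k : ℕ) (g : Y t), g⁻¹ * (⟨t, t_mem_Y⟩ : Y t) ^ k * g ∈ VY V t →
        g⁻¹ * (⟨t, t_mem_Y⟩ : Y t) ^ k * g = (⟨t, t_mem_Y⟩ : Y t) ^ k := fun k g _ => by
      have hc : Commute g (⟨t, t_mem_Y⟩ : Y t) := Subtype.ext (mem_Y.1 g.2)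
      rw [mul_assoc, ← (hc.pow_right k).eq, inv_mul_cancel_left]
    rw [MonoidHom.comp_apply, MonoidHom.transfer_eq_pow χ _ key, Units.coeHom_apply]
    have e : (⟨(⟨t, t_mem_Y⟩ : Y t) ^ (VY V t).index,
        MonoidHom.transfer_eq_pow_aux _ key⟩ : VY V t) = t' := by
      refine Subtype.ext (Subtype.ext ?_)
      show ((⟨t, t_mem_Y⟩ : Y t) ^ (VY V t).index : Y t).1 = t
      rw [h.index_VY, SubmonoidClass.coe_pow, pow_succ, pow_two, h.sq t h.mem, one_mul]
    rw [e]
    refine (hval t').resolve_left fun e => hχ (Units.ext e)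

end QData

/-- The data together with the two linear characters. -/
structure LData (V : Subgroup Q) (t : Q) (ε θ : Y t →* ℂ) : Prop extends QData V t where
  eps_val : ∀ y : Y t, ε y = 1 ∨ ε y = -1
  eps_t : ε ⟨t, Subgroup.mem_centralizer_singleton_iff.2 rfl⟩ = -1
  theta_cube : ∀ y : Y t, θ y ^ 3 = 1
  theta_one : ∀ y : Y t, θ y = 1 ↔ (y : Q) ∈ V

theorem QData.exists_ldata (h : QData V t) : ∃ ε θ : Y t →* ℂ, LData V t ε θ := by
  obtain ⟨ε, h1, h2⟩ := h.exists_eps
  obtain ⟨θ, h3, h4⟩ := h.exists_theta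
  exact ⟨ε, θ, ⟨h, h1, h2, h3, h4⟩⟩

/-- The function `(1 - ε) θ ^ k` on `Y`. -/
noncomputable def phi (ε θ : Y t →* ℂ) (k : ℕ) (y : Y t) : ℂ := (1 - ε y) * θ y ^ k

/-- The function induced from `phi`. -/
noncomputable def psi [Fintype Q] (ε θ : Y t →* ℂ) (k : ℕ) : Q → ℂ := indFun (Y t) (phi ε θ k)

theorem sum_hom_eq_zero {H : Type*} [Group H] [Fintype H] (f : H →* ℂ) {a : H} (ha : f a ≠ 1) :
    ∑ x, f x = 0 := by
  have : f a * ∑ x, f x = ∑ x, f x := by
    rw [Finset.mul_sum]
    exact Fintype.sum_equiv (Equiv.mulLeft a) _ _ fun x => (map_mul f a x).symm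
  rcases mul_left_eq_self₀.1 this with e | e
  · exact absurd e ha
  · exact e

namespace LData

variable {ε θ : Y t →* ℂ}

omit [Finite Q] in
theorem theta_ne (h : LData V t ε θ) (y : Y t) : θ y ≠ 0 := fun e => by
  simpa [e] using h.theta_cube y

omit [Finite Q] in
theorem conj_eps (h : LData V t ε θ) (y : Y t) : conj (ε y) = ε y := by
  rcases h.eps_val y with e | e <;> simp [e]

omit [Finite Q] in
theorem conj_theta (h : LData V t ε θ) (y : Y t) : conj (θ y) = θ y ^ 2 := by
  have hn : ‖θ y‖ = 1 := by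
    have := congrArg norm (h.theta_cube y)
    rw [norm_pow, norm_one] at this
    exact (pow_eq_one_iff_of_nonneg (norm_nonneg _) (by norm_num)).1 this
  have e : θ y * conj (θ y) = 1 := by
    rw [Complex.mul_conj, Complex.normSq_eq_norm_sq, hn]; norm_num
  calc conj (θ y) = θ y ^ 3 * conj (θ y) := by rw [h.theta_cube, one_mul]
    _ = θ y ^ 2 * (θ y * conj (θ y)) := by ring
    _ = θ y ^ 2 := by rw [e, mul_one]

omit [Finite Q] in
theorem isClassFunction_phi (k : ℕ) : IsClassFunction (Y t) (phi ε θ k) := fun x y => by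
  have e : ∀ f : Y t →* ℂ, f (y * x * y⁻¹) = f x := fun f => by
    rw [map_mul, map_mul, mul_right_comm, ← map_mul, mul_inv_cancel, map_one, one_mul]
  simp only [phi, e]

omit [Finite Q] in
/-- An element of odd order has `ε = 1`. -/
theorem eps_eq_one_of_odd (h : LData V t ε θ) {y : Y t} (hy : Odd (orderOf y)) : ε y = 1 := by
  rcases h.eps_val y with e | e
  · exact e
  · have : ε y ^ orderOf y = 1 := by rw [← map_pow, pow_orderOf_eq_one, map_one]
    rw [e, hy.neg_one_pow] at this
    norm_num at this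

/-- An element of `Y` outside `V` fixes only `1` and `t` in `V`. -/
theorem fixed_eq (h : LData V t ε θ) {y : Y t} (hθ : θ y ≠ 1) {v : Q} (hv : v ∈ V) (hv1 : v ≠ 1)
    (hyv : (y : Q) * v = v * y) : v = t := by
  classical
  by_contra hvt
  let q : Q := (y : Q)
  let K : Subgroup V := (Subgroup.centralizer ({q} : Set Q)).subgroupOf V
  have hK : ∀ w : V, w ∈ K ↔ (w : Q) * q = q * w := fun w => by
    rw [Subgroup.mem_subgroupOf, Subgroup.mem_centralizer_singleton_iff]
  have hne : ∀ hall : (∀ w : V, w ∈ K), False := fun hall =>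
    hθ ((h.theta_one y).2 (h.self _ fun w hw => ((hK ⟨w, hw⟩).1 (hall _)).symm))
  have hidx : K.index = 2 := by
    have hm := K.index_mul_card
    rw [h.cardV] at hm
    have h3 : 3 ≤ Nat.card K := by
      let a : Fin 3 → K := ![1, ⟨⟨t, h.mem⟩, (hK _).2 (QData.mem_Y.1 y.2).symm⟩,
        ⟨⟨v, hv⟩, (hK _).2 hyv.symm⟩]
      have ha : Function.Injective a := by
        intro i j hij
        have e := congrArg (fun x : K => ((x : V) : Q)) hij
        fin_cases i <;> fin_cases j <;>
          simp [a, h.ne, h.ne.symm, hv1, Ne.symm hv1, hvt, Ne.symm hvt] at e ⊢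
      simpa [Nat.card_eq_fintype_card] using Nat.card_le_card_of_injective a ha
    have h8 : K.index ≠ 1 := fun e => hne fun w => by
      rw [Subgroup.index_eq_one.1 e]; exact Subgroup.mem_top w
    have hd : K.index ∣ 8 := ⟨_, hm.symm⟩
    have hle : K.index ≤ 2 := by nlinarith
    interval_cases hi : K.index <;> simp_all
  have hsq : ∀ w : V, (y : Q) ^ 2 * w = w * (y : Q) ^ 2 := by
    intro w
    by_cases hw : w ∈ K
    · exact ((Commute.symm ((hK w).1 hw)).pow_left 2).eq
    · let w' : V := ⟨q * w * q⁻¹, h.normal.conj_mem _ w.2 q⟩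
      have hw' : w' ∉ K := fun e => hw ((hK w).2 (by
        have e' := (hK w').1 e
        simp only [w'] at e'
        calc (w : Q) * q = q⁻¹ * (q * w * q⁻¹ * q) * q := by group
          _ = q⁻¹ * (q * (q * w * q⁻¹)) * q := by rw [e']
          _ = q * w := by group))
      have hf : w' * w ∈ K := (Subgroup.mul_mem_iff_of_index_two hidx).2 (iff_of_false hw' hw)
      have e := (hK _).1 hf
      have e2 := h.sq w w.2
      have e3 := h.sq w' w'.2
      have e4 : (w' : Q) * w = w * w' := h.comm w'.2 w.2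
      simp only [Subgroup.coe_mul, w'] at e e3 e4
      show q ^ 2 * (w : Q) = w * q ^ 2
      have hqw : q * (w : Q) = q * w * q⁻¹ * q := by group
      have hqw' : q * (q * w * q⁻¹) = q * w * q⁻¹ * w * q * w := by
        calc q * (q * w * q⁻¹) = q * (q * w * q⁻¹ * w) * w := by
              simp only [mul_assoc, e2, mul_one]
          _ = _ := by rw [← e]
      calc q ^ 2 * (w : Q) = q * (q * w) := by rw [pow_two, mul_assoc]
        _ = q * (q * w * q⁻¹) * q := by rw [hqw]; group
        _ = q * w * q⁻¹ * w * q * w * q := by rw [hqw']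
        _ = q * w * q⁻¹ * w * (q * w) * q := by simp only [mul_assoc]
        _ = q * w * q⁻¹ * w * (q * w * q⁻¹) * q * q := by rw [hqw]; group
        _ = w * (q * w * q⁻¹) * (q * w * q⁻¹) * q * q := by rw [e4]
        _ = w * q ^ 2 := by rw [mul_assoc (w : Q), e3, mul_one, pow_two, mul_assoc]
  have hmem : (y : Q) ^ 2 ∈ V := h.self _ fun w hw => hsq ⟨w, hw⟩
  have h2 : θ y ^ 2 = 1 := by
    rw [← map_pow]; exact (h.theta_one _).2 (by simpa using hmem)
  exact hθ (calc θ y = θ y ^ 2 * θ y := by rw [h2, one_mul]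
    _ = 1 := by rw [← pow_succ, h.theta_cube])

theorem eps_one_or_mem (h : LData V t ε θ) {y : Y t} (hy : ε y = -1) :
    (y : Q) ∈ V ∨ (y : Q) ^ 3 = t := by
  by_cases hyV : (y : Q) ∈ V
  · exact Or.inl hyV
  refine Or.inr ?_
  have hθ : θ y ≠ 1 := fun e => hyV ((h.theta_one y).1 e)
  have h3V : (y : Q) ^ 3 ∈ V := by
    rw [← SubmonoidClass.coe_pow]
    exact (h.theta_one (y ^ 3)).1 (by rw [map_pow, h.theta_cube])
  by_contra hne
  have hc : ε (y ^ 3) = -1 := by rw [map_pow, hy]; norm_num
  have hne1 : (y : Q) ^ 3 ≠ 1 := fun e => by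
    rw [show y ^ 3 = 1 from Subtype.ext (by simpa using e), map_one] at hc
    norm_num at hc
  -- the group generated by `V` and `y` fixes the four elements `⟨t, y³⟩`
  have hyt : (y : Q) * t = t * y := QData.mem_Y.1 y.2
  exact hne (h.fixed_eq hθ h3V hne1 ((Commute.refl (y : Q)).pow_right 3).eq)

theorem psi_one [Fintype Q] (h : LData V t ε θ) (k : ℕ) : psi ε θ k 1 = 0 := by
  rw [psi, Char.indFun_one_apply, phi, map_one, sub_self, zero_mul, mul_zero]

open scoped Classical in
omit [Finite Q] in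
theorem phi_sum (h : LData V t ε θ) (y : Y t) :
    phi ε θ 0 y + phi ε θ 1 y + phi ε θ 2 y
      = if (y : Q) ∈ V then 3 * (1 - ε y) else 0 := by
  simp only [phi]
  split
  next hy => rw [(h.theta_one y).2 hy]; ring
  next hy =>
    have hne : θ y - 1 ≠ 0 := sub_ne_zero.2 fun e => hy ((h.theta_one y).1 e)
    have h3 : (θ y - 1) * (θ y ^ 0 + θ y ^ 1 + θ y ^ 2) = 0 := by
      linear_combination h.theta_cube y
    have h4 := (mul_eq_zero.1 h3).resolve_left hne
    linear_combination (1 - ε y) * h4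

omit [Finite Q] in
theorem conj_phi_one (h : LData V t ε θ) (y : Y t) : conj (phi ε θ 1 y) = phi ε θ 2 y := by
  simp only [phi, map_mul, map_sub, map_one, map_pow, h.conj_eps, h.conj_theta]
  ring

theorem isGeneralizedCharacter_phi (k : ℕ) : IsGeneralizedCharacter (Y t) (phi ε θ k) := by
  let l : Y t →* ℂ := (powMonoidHom k).comp θ
  refine ⟨_, _, Char.isCharacter_of_hom l, Char.isCharacter_of_hom (ε * l), ?_⟩
  funext y
  simp [phi, l]
  ring

theorem sum_one_sub_eps (h : LData V t ε θ) [Fintype (QData.VY V t)] :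
    ∑ v : QData.VY V t, (1 - ε (v : Y t)) = 8 := by
  rw [Finset.sum_sub_distrib, Finset.sum_const, Finset.card_univ, ← Nat.card_eq_fintype_card,
    h.toQData.card_VY, show ∑ v : QData.VY V t, ε (v : Y t) = 0 from
      sum_hom_eq_zero (ε.comp (QData.VY V t).subtype)
        (a := ⟨⟨t, QData.t_mem_Y⟩, h.mem⟩) (by simp [h.eps_t]; norm_num)]
  simp

variable [Fintype Q]

theorem isClassFunction_psi (k : ℕ) : IsClassFunction Q (psi ε θ k) :=
  Char.indFun_isClassFunction (Y t) (phi ε θ k)

theorem isGeneralizedCharacter_psi (k : ℕ) : IsGeneralizedCharacter Q (psi ε θ k) :=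
  Char.IsGeneralizedCharacter.indFun (isGeneralizedCharacter_phi k)

theorem conj_psi_one (h : LData V t ε θ) (q : Q) : conj (psi ε θ 1 q) = psi ε θ 2 q := by
  classical
  simp only [psi, indFun, map_mul, map_inv₀, map_natCast, map_sum]
  congr 1
  refine Finset.sum_congr rfl fun x _ => ?_
  rw [Char.extendByZero_eq, Char.extendByZero_eq]
  split
  · exact h.conj_phi_one _
  · exact map_zero _

theorem psi_eq_zero_of_odd (h : LData V t ε θ) (k : ℕ) {q : Q} (hq : Odd (orderOf q)) :
    psi ε θ k q = 0 := by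
  classical
  rw [psi, indFun, Finset.sum_eq_zero (fun x _ => ?_), mul_zero]
  rw [Char.extendByZero_eq]
  split
  next hm =>
    have ho : Odd (orderOf (⟨x⁻¹ * q * x, hm⟩ : Y t)) := by
      rw [← Subgroup.orderOf_coe]
      have e := MulEquiv.orderOf_eq (MulAut.conj x⁻¹) q
      rw [MulAut.conj_apply, inv_inv] at e
      show Odd (orderOf (x⁻¹ * q * x))
      rwa [e]
    rw [phi, h.eps_eq_one_of_odd ho, sub_self, zero_mul]
  · rfl

theorem psi_of_mem (h : LData V t ε θ) (k : ℕ) {q : Q} (hq : q ∈ V) (hq1 : q ≠ 1) :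
    psi ε θ k q = 8 := by
  classical
  have := Fintype.ofFinite (QData.VY V t)
  let F : Q → ℂ := extendByZero (Y t) (phi ε θ k)
  let A : Q → ℂ := fun v => ∑ x : Q, F (x⁻¹ * v * x)
  have hA : ∀ v ∈ V, v ≠ 1 → A v = A t := fun v hv hv1 => by
    obtain ⟨c, rfl⟩ := h.trans v hv hv1
    refine Fintype.sum_equiv (Equiv.mulLeft c⁻¹) _ _ fun x => ?_
    simp [mul_assoc]
  have hF : ∀ v : QData.VY V t, F ((v : Y t) : Q) = 1 - ε (v : Y t) := fun v => by
    simp only [F]
    rw [Char.extendByZero_coe, phi, (h.theta_one _).2 v.2, one_pow, mul_one]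
  have h1 : ∑ v : QData.VY V t, A ((v : Y t) : Q) = 7 * A t := by
    rw [← Finset.add_sum_erase _ _ (Finset.mem_univ (1 : QData.VY V t))]
    have hA1 : A (((1 : QData.VY V t) : Y t) : Q) = 0 := Finset.sum_eq_zero fun x _ => by
      have e := hF 1
      simp only [OneMemClass.coe_one, map_one, sub_self] at e
      simpa using e
    rw [hA1, zero_add, Finset.sum_congr rfl fun v hv => hA _ v.2 fun e =>
      (Finset.ne_of_mem_erase hv) (Subtype.ext (Subtype.ext e)), Finset.sum_const,
      Finset.card_erase_of_mem (Finset.mem_univ _), Finset.card_univ, ← Nat.card_eq_fintype_card,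
      h.toQData.card_VY]
    simp
  have h2 : ∑ v : QData.VY V t, A ((v : Y t) : Q) = 168 * 8 := by
    simp only [A]
    rw [Finset.sum_comm, Finset.sum_congr rfl (g := fun _ => (8 : ℂ)) fun x _ => ?_]
    · rw [Finset.sum_const, Finset.card_univ, ← Nat.card_eq_fintype_card, h.card]
      simp
    · rw [← h.sum_one_sub_eps]
      haveI := h.normal
      let e : V ≃* QData.VY V t := (Subgroup.subgroupOfEquivOfLe h.toQData.le_Y).symm
      refine Fintype.sum_equiv (e.symm.toEquiv.trans
        ((MulAut.conjNormal (x⁻¹ : Q) : V ≃* V).toEquiv.trans e.toEquiv)) _ _ fun v => ?_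
      rw [← hF]
      congr 1
      simp [e, Subgroup.subgroupOfEquivOfLe]
  rw [h1] at h2
  rw [psi, indFun, h.toQData.card_Y]
  show (24 : ℂ)⁻¹ * A q = 8
  rw [hA q hq hq1]
  linear_combination h2 / 168

theorem psi_of_not_mem (h : LData V t ε θ) (k : ℕ) {y : Y t} (hy : ε y = -1)
    (hyV : (y : Q) ∉ V) : psi ε θ k y = phi ε θ k y := by
  classical
  have hy3 := (h.eps_one_or_mem hy).resolve_left hyV
  have hx : ∀ x : Q, extendByZero (Y t) (phi ε θ k) (x⁻¹ * y * x)
      = if x ∈ Y t then phi ε θ k y else 0 := by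
    intro x
    rw [Char.extendByZero_eq]
    by_cases hxY : x ∈ Y t
    · rw [if_pos hxY]
      have hm : x⁻¹ * (y : Q) * x ∈ Y t := (Y t).mul_mem ((Y t).mul_mem ((Y t).inv_mem hxY) y.2) hxY
      rw [dif_pos hm]
      have e := isClassFunction_phi (ε := ε) (θ := θ) k y (⟨x, hxY⟩ : Y t)⁻¹
      rw [← e]
      congr 1
      ext
      simp
    · rw [if_neg hxY]
      split
      next hm =>
        rcases h.eps_val ⟨_, hm⟩ with e | e
        · rw [phi, e, sub_self, zero_mul]
        · exfalso
          rcases h.eps_one_or_mem e with e' | e'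
          · exact hyV (by simpa [mul_assoc] using h.normal.conj_mem _ e' x)
          · refine hxY (QData.mem_Y.2 ?_)
            have e2 : (x⁻¹ * (y : Q) * x) ^ 3 = x⁻¹ * (y : Q) ^ 3 * x := by
              simp only [pow_succ, pow_zero, one_mul]; group
            rw [show ((⟨_, hm⟩ : Y t) : Q) = x⁻¹ * (y : Q) * x from rfl, e2, hy3] at e'
            calc x * t = x * (x⁻¹ * t * x) := by rw [e']
              _ = t * x := by group
      · rfl
  rw [psi, indFun, Finset.sum_congr rfl fun x _ => hx x, ← Finset.sum_filter, Finset.sum_const,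
    nsmul_eq_mul]
  have : (Finset.univ.filter fun x => x ∈ Y t).card = 24 := by
    rw [← h.toQData.card_Y, Nat.card_eq_fintype_card, Fintype.card_subtype]
  rw [this, h.toQData.card_Y]
  push_cast
  ring

theorem classInner_psi (h : LData V t ε θ) [Fintype (Y t)] (i j : ℕ) :
    classInner (psi ε θ i) (psi ε θ j) = if (i + 2 * j) % 3 = 0 then 4 else 2 := by
  classical
  have := Fintype.ofFinite (QData.VY V t)
  have hterm : ∀ y : Y t, phi ε θ i y * conj (psi ε θ j y)
      = 2 * θ y ^ (i + 2 * j) - 2 * (ε y * θ y ^ (i + 2 * j))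
        + (if (y : Q) ∈ V then 6 * (1 - ε y) else 0) := by
    intro y
    rcases h.eps_val y with e | e
    · simp [phi, e]
    by_cases hy : (y : Q) ∈ V
    · have hy1 : (y : Q) ≠ 1 := fun e' => by
        rw [show y = 1 from Subtype.ext e', map_one] at e
        norm_num at e
      rw [if_pos hy, phi, h.psi_of_mem j hy hy1, (h.theta_one y).2 hy, e]
      simp only [one_pow, map_ofNat]
      ring
    · rw [if_neg hy, h.psi_of_not_mem j e hy, phi, phi, map_mul, map_sub, map_one, map_pow,
        h.conj_eps, h.conj_theta, e]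
      ring
  have hsum : ∑ y : Y t, (if (y : Q) ∈ V then 6 * (1 - ε y) else 0) = 48 := by
    rw [← Finset.sum_filter, ← Finset.mul_sum]
    rw [Finset.sum_subtype (p := (· ∈ QData.VY V t)) _ (fun y => by simp [Subgroup.mem_subgroupOf])
      (fun y => 1 - ε y), h.sum_one_sub_eps]
    norm_num
  have hnt : ∑ y : Y t, ε y * θ y ^ (i + 2 * j) = 0 :=
    sum_hom_eq_zero (ε * (powMonoidHom (i + 2 * j)).comp θ) (a := ⟨t, QData.t_mem_Y⟩) (by
      simp [h.eps_t, (h.theta_one ⟨t, QData.t_mem_Y⟩).2 h.mem]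
      norm_num)
  have ht : ∑ y : Y t, θ y ^ (i + 2 * j) = if (i + 2 * j) % 3 = 0 then 24 else 0 := by
    have hr : ∀ y : Y t, θ y ^ (i + 2 * j) = θ y ^ ((i + 2 * j) % 3) := fun y => by
      conv_lhs => rw [← Nat.mod_add_div (i + 2 * j) 3]
      rw [pow_add, pow_mul, h.theta_cube, one_pow, mul_one]
    simp only [hr]
    split
    next e =>
      simp only [e, pow_zero, Finset.sum_const, Finset.card_univ, ← Nat.card_eq_fintype_card,
        h.toQData.card_Y, nsmul_eq_mul, mul_one]
      norm_num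
    next e =>
      obtain ⟨y, hy⟩ : ∃ y : Y t, θ y ≠ 1 := by
        by_contra! hall
        have hle : Y t ≤ V := fun y hy => (h.theta_one ⟨y, hy⟩).1 (hall _)
        have := Subgroup.card_dvd_of_le hle
        rw [h.cardV, h.toQData.card_Y] at this
        norm_num at this
      refine sum_hom_eq_zero ((powMonoidHom ((i + 2 * j) % 3)).comp θ) (a := y) ?_
      simp only [MonoidHom.comp_apply, powMonoidHom_apply]
      rcases (show (i + 2 * j) % 3 = 1 ∨ (i + 2 * j) % 3 = 2 by omega) with e' | e' <;> rw [e']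
      · simpa using hy
      · intro e2
        exact hy (by rw [← h.theta_cube y, pow_succ, e2, one_mul])
  conv_lhs => rw [psi]
  rw [Char.frobenius_reciprocity _ _ (isClassFunction_psi j), classInner,
    Finset.sum_congr rfl fun y _ => hterm y, Finset.sum_add_distrib, Finset.sum_sub_distrib,
    ← Finset.mul_sum, ← Finset.mul_sum, hnt, hsum, ht, h.toQData.card_Y]
  split <;> norm_num

end LData

end Cfsg.Agent.EightAutomizer
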