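import Cfsg.Agent.Lib.EightAutomizer.Arith
import Cfsg.Agent.Lib.EightAutomizer.Column
import Cfsg.Agent.Lib.EightAutomizer.Quot
import Cfsg.Agent.Lib.Char.ClassMult
import Cfsg.Agent.Lib.Involution.StronglyEmbedded
import Cfsg.Agent.S0849

/-!
# Exclusion of an automizer of order 21

`Frame.false`: a finite group without nontrivial linear characters has no strongly embedded
subgroup `M` with a normal subgroup `W` of odd order such that `M ⧸ W` is the group `2³:(7:3)` and
`C(t)` is solvable with `O(C(t)) = C_W(t)` for an involution `t` of `M`.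
-/

set_option autoImplicit false

open scoped ComplexConjugate

namespace Cfsg.Agent.EightAutomizer

open Cfsg

variable {G : Type*} [Group G] [Finite G]

open scoped Classical in
theorem classInner_pullback {H : Type*} [Group H] [Fintype H] (W : Subgroup H) [W.Normal]
    [Fintype (H ⧸ W)] (f : H → ℂ) (g : H ⧸ W → ℂ) :
    classInner f (fun x => g (QuotientGroup.mk' W x)) = (Nat.card W : ℂ)⁻¹ *
      classInner (fun q => ∑ x ∈ Finset.univ.filter (fun x => QuotientGroup.mk' W x = q), f x) g := by
  classical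
  rw [classInner, classInner, Subgroup.card_eq_card_quotient_mul_card_subgroup W, Nat.cast_mul,
    mul_inv, mul_comm (Nat.card (H ⧸ W) : ℂ)⁻¹, mul_assoc]
  congr 2
  rw [← Finset.sum_fiberwise Finset.univ (QuotientGroup.mk' W)]
  refine Finset.sum_congr rfl fun q _ => ?_
  rw [Finset.sum_mul]
  refine Finset.sum_congr rfl fun x hx => ?_
  have e := (Finset.mem_filter.1 hx).2
  rw [e]

theorem classInner_pullback_both {H : Type*} [Group H] [Fintype H] (W : Subgroup H) [W.Normal]
    [Fintype (H ⧸ W)] (f g : H ⧸ W → ℂ) :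
    classInner (fun x => f (QuotientGroup.mk' W x)) (fun x => g (QuotientGroup.mk' W x))
      = classInner f g := by
  classical
  rw [classInner_pullback W (fun x => f (QuotientGroup.mk' W x)) g, classInner, classInner]
  have hcard : ∀ q : H ⧸ W,
      (Finset.univ.filter fun x => QuotientGroup.mk' W x = q).card = Nat.card W := by
    intro q
    obtain ⟨c, rfl⟩ := QuotientGroup.mk'_surjective W q
    rw [← Fintype.card_subtype, ← Nat.card_eq_fintype_card]
    refine Nat.card_congr
      { toFun := fun x => ⟨c⁻¹ * x.1, QuotientGroup.eq.1 x.2.symm⟩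
        invFun := fun w => ⟨c * w.1, by
          simp only [QuotientGroup.mk'_apply, QuotientGroup.mk_mul,
            (QuotientGroup.eq_one_iff (w : H)).2 w.2, mul_one]⟩
        left_inv := fun x => by ext; simp
        right_inv := fun w => by ext; simp }
  have hW : (Nat.card W : ℂ) ≠ 0 := Nat.cast_ne_zero.2 Nat.card_pos.ne'
  rw [mul_left_comm (Nat.card W : ℂ)⁻¹]
  congr 1
  rw [Finset.mul_sum]
  refine Finset.sum_congr rfl fun q _ => ?_
  rw [Finset.sum_congr rfl (g := fun _ => f q) fun x hx => by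
      have e := (Finset.mem_filter.1 hx).2
      rw [e], Finset.sum_const, hcard, nsmul_eq_mul]
  field_simp

theorem conj_indFun [Fintype G] (H : Subgroup G) {f g : H → ℂ} (hfg : ∀ x, conj (f x) = g x)
    (x : G) : conj (indFun H f x) = indFun H g x := by
  classical
  simp only [indFun, map_mul, map_inv₀, map_natCast, map_sum]
  congr 1
  refine Finset.sum_congr rfl fun y _ => ?_
  rw [Char.extendByZero_eq, Char.extendByZero_eq]
  split
  · exact hfg _
  · exact map_zero _

theorem classInner_conj_conj [Fintype G] (f g : G → ℂ) :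
    classInner (fun x => conj (f x)) (fun x => conj (g x)) = conj (classInner f g) := by
  simp [classInner, map_sum]

/-- The sum of a character over the products of two members of a class. -/
theorem sum_products [Fintype G] [DecidableEq G] (a : G) (χ : IrrCharacter G) :
    ∑ᶠ p ∈ {p : G × G | IsConj a p.1 ∧ IsConj a p.2}, (χ : G → ℂ) (p.1 * p.2) =
      (Nat.card {x : G // IsConj a x} : ℂ) ^ 2 * (χ : G → ℂ) a ^ 2 / (χ : G → ℂ) 1 := by
  classical
  obtain ⟨n, ρ, hi, he⟩ := χ.2
  have hne := Char.IsIrrCharacter.apply_one_ne_zero χ.2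
  have h2 : ∑ x, ∑ y, Char.classIndicator a x * Char.classIndicator a y * ρ.character (x * y) =
      LinearMap.trace ℂ _ (Char.groupSumOp ρ (Char.classIndicator a) *
        Char.groupSumOp ρ (Char.classIndicator a)) := by
    simp [Char.groupSumOp, Finset.sum_mul, Finset.mul_sum, map_sum, Representation.character]
    exact (Finset.sum_congr rfl fun x _ => Finset.sum_congr rfl fun y _ => by ring).trans
      Finset.sum_comm
  rw [Char.groupSumOp_classIndicator ρ a, ← Module.End.one_eq_id, smul_mul_smul_comm, mul_one,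
    map_smul, LinearMap.trace_one, smul_eq_mul] at h2
  rw [show (Module.finrank ℂ (Fin n → ℂ) : ℂ) = ρ.character 1 from (Representation.char_one ρ).symm]
    at h2
  rw [finsum_mem_eq_toFinset_sum, ← he]
  refine Eq.trans ?_ (h2.trans (by rw [he]; field_simp))
  rw [← Fintype.sum_prod_type' fun x y =>
    Char.classIndicator a x * Char.classIndicator a y * ρ.character (x * y)]
  rw [Set.toFinset_ofPred, Finset.sum_filter]
  refine Finset.sum_congr rfl fun p _ => ?_
  unfold Char.classIndicator
  by_cases h1 : IsConj a p.1 <;> by_cases h3 : IsConj a p.2 <;>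
    simp only [h1, h3, if_true, if_false, and_self, and_true, true_and, and_false, false_and,
      mul_one, one_mul, mul_zero, zero_mul]

/-- The frame of the case of an automizer of order 21. -/
structure Frame (M : Subgroup G) (W : Subgroup M) [W.Normal] (V : Subgroup (M ⧸ W)) (t : M) :
    Prop where
  se : IsStronglyEmbedded M
  W_odd : Odd (Nat.card W)
  quot : QData V (QuotientGroup.mk' W t)
  t_two : orderOf (t : G) = 2
  solv : Group.IsSolvable (Subgroup.centralizer ({(t : G)} : Set G))
  core : ∀ x : G, x ∈ centralizerPPrimeCore 2 (t : G) ↔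
    ∃ hx : x ∈ M, (⟨x, hx⟩ : M) ∈ W ∧ x * t = t * x

variable {M : Subgroup G} {W : Subgroup M} [W.Normal] {V : Subgroup (M ⧸ W)} {t : M}

local notation "q" => QuotientGroup.mk' W

theorem orderOf_two_iff {x : G} : orderOf x = 2 ↔ x ≠ 1 ∧ x * x = 1 := by
  rw [orderOf_eq_prime_iff, pow_two]
  exact and_comm

namespace Frame

theorem t_sq (F : Frame M W V t) : t * t = 1 :=
  Subtype.ext (by simpa using (orderOf_two_iff.1 F.t_two).2)

theorem card_M (F : Frame M W V t) : Nat.card M = 168 * Nat.card W := by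
  rw [Subgroup.card_eq_card_quotient_mul_card_subgroup W, F.quot.card]

/-- The odd exponent sending an element of `M` to its 2-part. -/
theorem odd_k (F : Frame M W V t) : Odd (21 * Nat.card W) := (by decide : Odd 21).mul F.W_odd

theorem pow_k_eq_one (F : Frame M W V t) {x : M} (hx : Odd (orderOf x)) :
    x ^ (21 * Nat.card W) = 1 := by
  refine orderOf_dvd_iff_pow_eq_one.1 (Nat.Coprime.dvd_of_dvd_mul_left (k := orderOf x) (m := 8) ?_ ?_)
  · exact (Nat.Coprime.pow_right 3 (Nat.coprime_two_right.2 hx))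
  · rw [← mul_assoc, show 8 * 21 = 168 from rfl, ← F.card_M]
    exact orderOf_dvd_natCard x

theorem odd_of_image (F : Frame M W V t) {x : M} (hx : Odd (orderOf (q x))) : Odd (orderOf x) := by
  have h1 : x ^ orderOf (q x) ∈ W := (QuotientGroup.eq_one_iff _).1 (by
    show q (x ^ orderOf (q x)) = 1
    rw [map_pow, pow_orderOf_eq_one])
  have h2 : x ^ (orderOf (q x) * Nat.card W) = 1 := by
    rw [pow_mul]
    exact orderOf_dvd_iff_pow_eq_one.1 (Subgroup.orderOf_dvd_natCard W h1)
  exact (hx.mul F.W_odd).of_dvd_nat (orderOf_dvd_iff_pow_eq_one.2 h2)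

theorem image_involution (F : Frame M W V t) {a : M} (ha : orderOf (a : G) = 2) :
    q a ∈ V ∧ q a ≠ 1 := by
  haveI := F.quot.normal
  have hne : q a ≠ 1 := fun e => by
    have h := Subgroup.orderOf_dvd_natCard W ((QuotientGroup.eq_one_iff a).1 e)
    rw [← Subgroup.orderOf_coe, ha] at h
    have := F.W_odd
    rw [Nat.odd_iff] at this
    omega
  refine ⟨?_, hne⟩
  have hidx : V.index = 21 := by
    have := V.index_mul_card
    rw [F.quot.card, F.quot.cardV] at this
    omega
  have h21 := V.pow_index_mem (q a)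
  have hsq : a * a = 1 := Subtype.ext (by simpa using (orderOf_two_iff.1 ha).2)
  rwa [hidx, show 21 = 2 * 10 + 1 from rfl, pow_succ, pow_mul, pow_two, ← map_mul, hsq, map_one,
    one_pow, one_mul] at h21

/-- The involutions in the coset of `t` are conjugate under `W`. -/
theorem fibre_conj (F : Frame M W V t) {a : M} (ha : orderOf (a : G) = 2) (hq : q a = q t) :
    ∃ w ∈ W, a = w * t * w⁻¹ := by
  have hw : t * a ∈ W := (QuotientGroup.eq_one_iff _).1 (by
    show q (t * a) = 1
    rw [map_mul, hq, ← map_mul, F.t_sq, map_one])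
  set w₀ := t * a with hw₀
  have ha2 : a * a = 1 := Subtype.ext (by simpa using (orderOf_two_iff.1 ha).2)
  have hti : t⁻¹ = t := inv_eq_of_mul_eq_one_right F.t_sq
  obtain ⟨l, hl⟩ := F.W_odd.of_dvd_nat (Subgroup.orderOf_dvd_natCard W hw)
  refine ⟨w₀ ^ l, W.pow_mem hw l, ?_⟩
  have hinv : t * w₀ * t⁻¹ = w₀⁻¹ := by
    rw [hw₀, mul_inv_rev, hti, inv_eq_of_mul_eq_one_right ha2, ← mul_assoc, F.t_sq, one_mul]
  have hc : w₀ ^ l * t = t * (w₀ ^ l)⁻¹ := by
    have e := congrArg (· ^ l) hinv
    simp only [conj_pow, inv_pow] at e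
    rw [← e, hti, ← mul_assoc, ← mul_assoc, F.t_sq, one_mul]
  have hfin : (w₀ ^ l)⁻¹ * (w₀ ^ l)⁻¹ = w₀ := by
    rw [← mul_inv_rev, ← pow_add, eq_comm, ← mul_eq_one_iff_eq_inv, ← pow_succ',
      show l + l + 1 = orderOf w₀ by omega, pow_orderOf_eq_one]
  rw [hc, mul_assoc, hfin, hw₀, ← mul_assoc, F.t_sq, one_mul]

theorem exists_lift_centralizer (F : Frame M W V t) {y : M ⧸ W} (hy : y * q t = q t * y) :
    ∃ m : M, m * t = t * m ∧ q m = y := by
  obtain ⟨m, rfl⟩ := QuotientGroup.mk'_surjective W y
  have ha : orderOf ((m * t * m⁻¹ : M) : G) = 2 := by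
    rw [Subgroup.coe_mul, Subgroup.coe_mul, Subgroup.coe_inv]
    exact (MulEquiv.orderOf_eq (MulAut.conj (m : G)) t).trans F.t_two
  obtain ⟨w, hw, e⟩ := F.fibre_conj ha (by rw [map_mul, map_mul, hy, map_inv, mul_inv_cancel_right])
  refine ⟨w⁻¹ * m, ?_, ?_⟩
  · calc w⁻¹ * m * t = w⁻¹ * (m * t * m⁻¹) * m := by group
      _ = t * (w⁻¹ * m) := by rw [e]; group
  · rw [map_mul, map_inv, show q w = 1 from (QuotientGroup.eq_one_iff w).2 hw, inv_one, one_mul]

/-- Sums over the cosets of `W`. -/
noncomputable def fib [Fintype M] (f : G → ℂ) (y : M ⧸ W) : ℂ :=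
  open scoped Classical in ∑ x ∈ Finset.univ.filter (fun x => q x = y), f (x : G)

theorem isClassFunction_fib [Fintype M] {f : G → ℂ} (hf : IsClassFunction G f) :
    IsClassFunction (M ⧸ W) (fib (W := W) f) := by
  classical
  intro y z
  obtain ⟨c, rfl⟩ := QuotientGroup.mk'_surjective W z
  unfold fib
  refine Finset.sum_nbij' (fun x => c⁻¹ * x * c) (fun x => c * x * c⁻¹) ?_ ?_ ?_ ?_ ?_
  · intro x hx
    simp only [Finset.mem_coe, Finset.mem_filter, Finset.mem_univ, true_and] at hx ⊢
    rw [map_mul, map_mul, hx, map_inv]; group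
  · intro x hx
    simp only [Finset.mem_coe, Finset.mem_filter, Finset.mem_univ, true_and] at hx ⊢
    rw [map_mul, map_mul, hx, map_inv]
  · intro x _; group
  · intro x _; group
  · intro x _
    simpa using (hf (x : G) (c : G)⁻¹).symm

/-- The number of involutions in a coset. -/
noncomputable def r (W : Subgroup M) [W.Normal] (t : M) : ℕ :=
  Nat.card {a : M // orderOf (a : G) = 2 ∧ QuotientGroup.mk' W a = QuotientGroup.mk' W t}

theorem r_pos (F : Frame M W V t) : 0 < r W t :=
  haveI : Nonempty {a : M // orderOf (a : G) = 2 ∧ QuotientGroup.mk' W a = QuotientGroup.mk' W t} :=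
    ⟨⟨t, F.t_two, rfl⟩⟩
  Nat.card_pos

/-- The sum over a coset whose 2-part is `t`. -/
theorem fib_eq (F : Frame M W V t) [Fintype M] [Fintype (centralizerPPrimeCore 2 (t : G))]
    {h : M} (hc : h * t = t * h) (hh : Odd (orderOf h)) {f : G → ℂ} (hf : IsClassFunction G f) :
    fib (W := W) f (q (t * h)) =
      r W t * ∑ o : centralizerPPrimeCore 2 (t : G), f ((t : G) * h * o) := by
  classical
  set k := 21 * Nat.card W with hk
  have htk : ∀ {z : M}, z * z = 1 → z ^ k = z := fun {z} hz => by
    obtain ⟨l, hl⟩ := F.odd_k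
    rw [hk, hl, pow_succ, pow_mul, pow_two, hz, one_pow, one_mul]
  have hx₀ : ∀ {g : M}, g * t = t * g → Odd (orderOf g) → (t * g) ^ k = t := fun {g} hg ho => by
    rw [(show Commute t g from hg.symm).mul_pow, htk F.t_sq, F.pow_k_eq_one ho, mul_one]
  have hP : ∀ x ∈ (Finset.univ.filter fun x => q x = q (t * h)),
      x ^ k ∈ (Finset.univ.filter fun a : M => orderOf (a : G) = 2 ∧ q a = q t) := by
    intro x hx
    simp only [Finset.mem_filter, Finset.mem_univ, true_and] at hx ⊢
    have hq : q (x ^ k) = q t := by rw [map_pow, hx, ← map_pow, hx₀ hc hh]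
    refine ⟨?_, hq⟩
    have h8 : (x ^ k) ^ 8 = 1 := by
      rw [← pow_mul, show k * 8 = Nat.card M by rw [F.card_M, hk]; ring, pow_card_eq_one']
    have hsqW : x ^ k * x ^ k ∈ W := (QuotientGroup.eq_one_iff _).1 (by
      show q (x ^ k * x ^ k) = 1
      rw [map_mul, hq, ← map_mul, F.t_sq, map_one])
    have hsq : x ^ k * x ^ k = 1 := by
      rw [← orderOf_eq_one_iff]
      have h1 := Subgroup.orderOf_dvd_natCard W hsqW
      have h2 : orderOf (x ^ k * x ^ k) ∣ 4 := orderOf_dvd_iff_pow_eq_one.2 (by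
        rw [← pow_two, ← pow_mul]; exact h8)
      exact Nat.eq_one_of_dvd_coprimes
        ((Nat.Coprime.pow_right 2 (Nat.coprime_two_right.2 F.W_odd))) h1 h2
    refine orderOf_two_iff.2 ⟨fun e => ?_, by simpa using congrArg Subtype.val hsq⟩
    have : x ^ k = 1 := Subtype.ext (by simpa using e)
    rw [this, map_one] at hq
    exact F.quot.ne hq.symm
  have hsplit : fib (W := W) f (q (t * h)) =
      ∑ a ∈ (Finset.univ.filter fun a : M => orderOf (a : G) = 2 ∧ q a = q t),
        ∑ x ∈ (Finset.univ.filter fun x => q x = q (t * h)).filter (fun x => x ^ k = a), f (x : G) :=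
    (Finset.sum_fiberwise_of_maps_to hP _).symm
  rw [hsplit]
  have hconst : ∀ a ∈ (Finset.univ.filter fun a : M => orderOf (a : G) = 2 ∧ q a = q t),
      (∑ x ∈ (Finset.univ.filter fun x => q x = q (t * h)).filter (fun x => x ^ k = a), f (x : G))
        = ∑ o : centralizerPPrimeCore 2 (t : G), f ((t : G) * h * o) := by
    intro a ha
    simp only [Finset.mem_filter, Finset.mem_univ, true_and] at ha
    obtain ⟨w, hw, rfl⟩ := F.fibre_conj ha.1 ha.2
    have hqw : q w = 1 := (QuotientGroup.eq_one_iff w).2 hw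
    have hmem : ∀ o : centralizerPPrimeCore 2 (t : G), ∃ o' : M, (o' : G) = o ∧ o' ∈ W ∧
        o' * t = t * o' := fun o => by
      obtain ⟨hx, hW, hcm⟩ := (F.core _).1 o.2
      exact ⟨⟨o, hx⟩, rfl, hW, Subtype.ext hcm⟩
    choose oM hoM hoW hot using hmem
    refine Finset.sum_bij' (fun x hx => (⟨((t * h)⁻¹ * (w⁻¹ * x * w) : M), ?_⟩ :
        centralizerPPrimeCore 2 (t : G)))
      (fun o _ => w * (t * h * oM o) * w⁻¹) ?_ ?_ ?_ ?_ ?_
    · simp only [Finset.mem_filter, Finset.mem_univ, true_and] at hx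
      have hct : (w⁻¹ * x * w) * t = t * (w⁻¹ * x * w) := by
        have e : Commute x (w * t * w⁻¹) := hx.2 ▸ (Commute.refl x).pow_right k
        calc w⁻¹ * x * w * t = w⁻¹ * (x * (w * t * w⁻¹)) * w := by group
          _ = w⁻¹ * ((w * t * w⁻¹) * x) * w := by rw [e.eq]
          _ = t * (w⁻¹ * x * w) := by group
      refine (F.core _).2 ⟨SetLike.coe_mem _, (QuotientGroup.eq_one_iff _).1 ?_, ?_⟩
      · show q ((t * h)⁻¹ * (w⁻¹ * x * w)) = 1
        simp only [map_mul, map_inv, hqw, hx.1]
        group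
      · have hc2 : Commute ((t * h)⁻¹ * (w⁻¹ * x * w)) t :=
          ((Commute.refl t).mul_left hc).inv_left.mul_left hct
        exact congrArg Subtype.val hc2.eq
    · intro x _; exact Finset.mem_univ _
    · intro o _
      simp only [Finset.mem_filter, Finset.mem_univ, true_and]
      refine ⟨?_, ?_⟩
      · simp only [map_mul, map_inv, hqw, (show q (oM o) = 1 from
          (QuotientGroup.eq_one_iff _).2 (hoW o))]
        group
      · rw [conj_pow, mul_assoc t, hx₀ ((show Commute h t from hc).mul_left (hot o)).eq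
          (F.odd_of_image (by
            rw [map_mul, (show q (oM o) = 1 from (QuotientGroup.eq_one_iff _).2 (hoW o)), mul_one]
            exact hh.of_dvd_nat (orderOf_map_dvd _ h)))]
    · intro x hx
      ext
      simp only [Subgroup.coe_mul, Subgroup.coe_inv, hoM]
      group
    · intro o _
      ext
      simp only [Subgroup.coe_mul, Subgroup.coe_inv, hoM o]
      group
    · intro x _
      have := hf (x : G) (w : G)⁻¹
      simp only [inv_inv] at this
      rw [← this]
      congr 1
      simp only [Subgroup.coe_mul, Subgroup.coe_inv]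
      group
  rw [Finset.sum_congr rfl hconst, Finset.sum_const, nsmul_eq_mul]
  congr 2
  rw [r, Nat.card_eq_fintype_card, Fintype.card_subtype]

theorem r_mul_card_core (F : Frame M W V t) :
    r W t * Nat.card (centralizerPPrimeCore 2 (t : G)) = Nat.card W := by
  classical
  have := Fintype.ofFinite M
  have := Fintype.ofFinite (centralizerPPrimeCore 2 (t : G))
  have h := F.fib_eq (h := 1) (by rw [one_mul, mul_one]) (by simp) (f := fun _ => (1 : ℂ))
    (fun _ _ => rfl)
  simp only [fib, Finset.sum_const, nsmul_eq_mul, mul_one, Finset.card_univ] at h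
  have e : (Finset.univ.filter fun x => q x = q t).card = Nat.card W := by
    rw [← Fintype.card_subtype, ← Nat.card_eq_fintype_card]
    refine Nat.card_congr
      { toFun := fun x => ⟨t⁻¹ * x.1, QuotientGroup.eq.1 x.2.symm⟩
        invFun := fun w => ⟨t * w.1, by
          simp only [QuotientGroup.mk'_apply, QuotientGroup.mk_mul,
            (QuotientGroup.eq_one_iff (w : M)).2 w.2, mul_one]⟩
        left_inv := fun x => by ext; simp
        right_inv := fun w => by ext; simp }
  rw [e, ← Nat.card_eq_fintype_card] at h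
  exact_mod_cast h.symm

open scoped Classical in
theorem fib_comp (F : Frame M W V t) [Fintype M] (g : M ⧸ W → ℂ) :
    ∑ a ∈ Finset.univ.filter (fun a : M => orderOf (a : G) = 2), g (q a) =
      r W t * ∑ v ∈ Finset.univ.filter (fun v : M ⧸ W => v ∈ V ∧ v ≠ 1), g v := by
  haveI := F.quot.normal
  rw [← Finset.sum_fiberwise_of_maps_to (g := q)
      (t := Finset.univ.filter (fun v : M ⧸ W => v ∈ V ∧ v ≠ 1))
      (fun a ha => by
        simp only [Finset.mem_filter, Finset.mem_univ, true_and] at ha ⊢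
        exact F.image_involution ha), Finset.mul_sum]
  refine Finset.sum_congr rfl fun v hv => ?_
  simp only [Finset.mem_filter, Finset.mem_univ, true_and] at hv
  rw [Finset.sum_congr rfl (g := fun _ => g v) fun a ha => by
    have e := (Finset.mem_filter.1 ha).2
    rw [e], Finset.sum_const, nsmul_eq_mul]
  congr 2
  obtain ⟨c₀, hc₀⟩ := F.quot.trans v hv.1 hv.2
  obtain ⟨c, rfl⟩ := QuotientGroup.mk'_surjective W c₀
  rw [r, Nat.card_eq_fintype_card, Fintype.card_subtype]
  refine Finset.card_nbij' (fun x => c⁻¹ * x * c) (fun x => c * x * c⁻¹) ?_ ?_ ?_ ?_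
  · intro x hx
    simp only [Finset.mem_coe, Finset.mem_filter, Finset.mem_univ, true_and] at hx ⊢
    refine ⟨?_, ?_⟩
    · rw [← hx.1]
      simpa using MulEquiv.orderOf_eq (MulAut.conj (c : G)⁻¹) (x : G)
    · rw [map_mul, map_mul, hx.2, ← hc₀, map_inv]; group
  · intro x hx
    simp only [Finset.mem_coe, Finset.mem_filter, Finset.mem_univ, true_and] at hx ⊢
    refine ⟨?_, ?_⟩
    · rw [← hx.1]
      simpa using MulEquiv.orderOf_eq (MulAut.conj (c : G)) (x : G)
    · rw [map_mul, map_mul, hx.2, ← hc₀, map_inv]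
  · intro x _; group
  · intro x _; group

theorem card_inv (F : Frame M W V t) :
    Nat.card {a : M // orderOf (a : G) = 2} = 7 * r W t := by
  classical
  have := Fintype.ofFinite M
  have h := F.fib_comp (fun _ => (1 : ℂ))
  simp only [Finset.sum_const, nsmul_eq_mul, mul_one] at h
  have h7 : (Finset.univ.filter (fun v : M ⧸ W => v ∈ V ∧ v ≠ 1)).card = 7 := by
    rw [← Fintype.card_subtype, ← Nat.card_eq_fintype_card]
    exact F.quot.card_nontrivial
  rw [h7, ← Fintype.card_subtype, ← Nat.card_eq_fintype_card] at h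
  rw [mul_comm]
  exact_mod_cast h

theorem isConj_iff_two (F : Frame M W V t) {a : G} : IsConj (t : G) a ↔ orderOf a = 2 := by
  refine ⟨fun h => ?_, fun h => Involution.isConj_involutions F.se F.t_two h⟩
  obtain ⟨c, rfl⟩ := isConj_iff.1 h
  rw [← F.t_two]
  simpa using MulEquiv.orderOf_eq (MulAut.conj c) (t : G)

theorem card_class (F : Frame M W V t) :
    Nat.card {x : G // IsConj (t : G) x} = 7 * r W t * M.index := by
  have h1 := Char.card_conjugates_mul_card_centralizer (t : G)
  have h2 := Char.card_conjugates_mul_card_centralizer t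
  have e1 : Nat.card {x : M | IsConj t x} = 7 * r W t := by
    rw [← F.card_inv]
    refine Nat.card_congr (Equiv.subtypeEquivRight fun a => ⟨fun h => ?_, fun h => ?_⟩)
    · exact F.isConj_iff_two.1 (MonoidHom.map_isConj M.subtype h)
    · obtain ⟨c, hc, e⟩ := Involution.exists_conj_in F.se F.t_two t.2 h a.2
      exact isConj_iff.2 ⟨⟨c, hc⟩, Subtype.ext e⟩
  have hle := Involution.centralizer_le F.se F.t_two t.2
  have e2 : Nat.card (Subgroup.centralizer ({t} : Set M))
      = Nat.card (Subgroup.centralizer ({(t : G)} : Set G)) := Nat.card_congr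
    { toFun := fun x => ⟨x.1, Subgroup.mem_centralizer_singleton_iff.2
        (congrArg Subtype.val (Subgroup.mem_centralizer_singleton_iff.1 x.2))⟩
      invFun := fun x => ⟨⟨x.1, hle x.2⟩, Subgroup.mem_centralizer_singleton_iff.2
        (Subtype.ext (Subgroup.mem_centralizer_singleton_iff.1 x.2))⟩
      left_inv := fun _ => rfl
      right_inv := fun _ => rfl }
  rw [e1, e2] at h2
  rw [← M.index_mul_card, ← h2, ← mul_assoc, mul_comm M.index] at h1
  exact Nat.eq_of_mul_eq_mul_right Nat.card_pos h1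

/-- Even elements of `M` are not fused out of `M`. -/
theorem mem_of_conj_even (F : Frame M W V t) {x g : G} (hx : x ∈ M) (he : Even (orderOf x))
    (hg : g * x * g⁻¹ ∈ M) : g ∈ M := by
  obtain ⟨l, hl⟩ := even_iff_two_dvd.1 he
  have hlpos : 0 < l := by
    rcases Nat.eq_zero_or_pos l with rfl | h
    · exact absurd hl (by simpa using (orderOf_pos x).ne')
    · exact h
  have h2 : orderOf (x ^ l) = 2 := by
    rw [orderOf_pow' x hlpos.ne', hl, Nat.gcd_eq_right (dvd_mul_left l 2),
      Nat.mul_div_cancel _ hlpos]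
  refine Involution.mem_of_conj_mem F.se h2 (M.pow_mem hx l) ?_
  rw [← conj_pow]
  exact M.pow_mem hg l

variable {ε θ : Y (QuotientGroup.mk' W t) →* ℂ} [Fintype G]

/-- The class functions on `G` induced from the inflations of `psi`. -/
noncomputable def Phi [Fintype (M ⧸ W)] (ε θ : Y (QuotientGroup.mk' W t) →* ℂ) (k : ℕ) : G → ℂ :=
  indFun M (fun x => psi ε θ k (q x))

variable [Fintype (M ⧸ W)]

theorem isClassFunction_inflate {f : M ⧸ W → ℂ} (hf : IsClassFunction (M ⧸ W) f) :
    IsClassFunction M (fun x => f (q x)) := fun a b => by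
  simp only [map_mul, map_inv]
  exact hf _ _

theorem psi_eq_zero_of_odd_elt (L : LData V (QuotientGroup.mk' W t) ε θ) (k : ℕ) {x : M}
    (hx : ¬ Even (orderOf (x : G))) : psi ε θ k (q x) = 0 := by
  refine L.psi_eq_zero_of_odd k ?_
  rw [Nat.not_even_iff_odd, Subgroup.orderOf_coe] at hx
  exact hx.of_dvd_nat (orderOf_map_dvd _ x)

theorem Phi_apply_even (k : ℕ) (F : Frame M W V t) {x : M} (he : Even (orderOf (x : G))) :
    Phi ε θ k (x : G) = psi ε θ k (q x) := by
  classical
  have hterm : ∀ g : G, extendByZero M (fun z => psi ε θ k (q z)) (g⁻¹ * x * g)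
      = if g ∈ M then psi ε θ k (q x) else 0 := by
    intro g
    rw [Char.extendByZero_eq]
    by_cases hg : g ∈ M
    · rw [if_pos hg, dif_pos (M.mul_mem (M.mul_mem (M.inv_mem hg) x.2) hg)]
      have e := isClassFunction_inflate (W := W) (f := psi ε θ k)
        (Char.indFun_isClassFunction _ _) x (⟨g, hg⟩ : M)⁻¹
      simp only at e
      rw [← e]
      congr 2
      ext
      simp
    · rw [if_neg hg]
      split
      next hm =>
        have hg' : g⁻¹ ∈ M := F.mem_of_conj_even x.2 he (by simpa using hm)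
        exact absurd (by simpa using M.inv_mem hg') hg
      · rfl
  rw [Phi, indFun, Finset.sum_congr rfl fun g _ => hterm g, ← Finset.sum_filter, Finset.sum_const,
    nsmul_eq_mul, ← Fintype.card_subtype, ← Nat.card_eq_fintype_card,
    inv_mul_cancel_left₀ (Nat.cast_ne_zero.2 Nat.card_pos.ne')]

theorem classInner_Phi (F : Frame M W V t) (L : LData V (QuotientGroup.mk' W t) ε θ)
    (i j : ℕ) :
    classInner (Phi ε θ i) (Phi ε θ j) = if (i + 2 * j) % 3 = 0 then 4 else 2 := by
  classical
  have := Fintype.ofFinite M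
  have := Fintype.ofFinite (Y (QuotientGroup.mk' W t))
  rw [← L.classInner_psi i j, ← classInner_pullback_both W]
  show classInner (indFun M _) (Phi ε θ j) = _
  rw [Char.frobenius_reciprocity M _ (χ := Phi ε θ j) (Char.indFun_isClassFunction M _)]
  simp only [classInner]
  congr 1
  refine Finset.sum_congr rfl fun x _ => ?_
  by_cases he : Even (orderOf (x : G))
  · rw [F.Phi_apply_even j he]
  · rw [psi_eq_zero_of_odd_elt L i he, zero_mul, zero_mul]

theorem isGeneralizedCharacter_Phi (k : ℕ) : IsGeneralizedCharacter G (Phi ε θ k) :=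
  Char.IsGeneralizedCharacter.indFun
    (Char.IsGeneralizedCharacter.comp_hom (LData.isGeneralizedCharacter_psi k) q)

theorem Phi_one (L : LData V (QuotientGroup.mk' W t) ε θ) (k : ℕ) : Phi ε θ k 1 = 0 := by
  show indFun M _ 1 = 0
  rw [Char.indFun_one_apply, map_one, L.psi_one, mul_zero]

theorem conj_Phi_one (L : LData V (QuotientGroup.mk' W t) ε θ) (x : G) :
    conj (Phi ε θ 1 x) = Phi ε θ 2 x :=
  conj_indFun M (fun _ => L.conj_psi_one _) x

theorem conj_Phi_zero (L : LData V (QuotientGroup.mk' W t) ε θ) (x : G) :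
    conj (Phi ε θ 0 x) = Phi ε θ 0 x :=
  conj_indFun M (fun z => conj_indFun _ (fun y => by
    simp only [phi, map_mul, map_sub, map_one, pow_zero]
    rw [L.conj_eps y]) _) x

open scoped Classical in
theorem classInner_irr_Phi {f : G → ℂ} (hf : IsClassFunction G f) (k : ℕ) [Fintype M]
    [Fintype (Y (QuotientGroup.mk' W t))] :
    classInner f (Phi ε θ k) = (Nat.card W : ℂ)⁻¹ *
      classInner (fun y : Y (QuotientGroup.mk' W t) => fib (W := W) f y) (phi ε θ k) := by
  show classInner f (indFun M _) = _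
  rw [Char.frobenius_reciprocity' _ _ hf, classInner_pullback W]
  congr 1
  rw [← Char.frobenius_reciprocity' _ _ (isClassFunction_fib hf)]
  rfl

/-- The coset sums of an irreducible character. -/
theorem fib_irr (F : Frame M W V t) (L : LData V (QuotientGroup.mk' W t) ε θ) [Fintype M]
    {I : Ideal AlgInt} (hI : IsPModular 2 I) (χ : IrrCharacter G)
    {y : Y (QuotientGroup.mk' W t)} (hy : ε y = -1) :
    (χ ∈ principalBlock I G → (y : M ⧸ W) ∈ V →
      fib (W := W) (χ : G → ℂ) y = Nat.card W * (χ : G → ℂ) t) ∧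
    (χ ∉ principalBlock I G → fib (W := W) (χ : G → ℂ) y = 0) := by
  classical
  have := Fintype.ofFinite (centralizerPPrimeCore 2 (t : G))
  have hu : ∃ k, orderOf (t : G) = 2 ^ k := ⟨1, F.t_two⟩
  have hcl := Blocks.irr_class χ
  by_cases hyV : (y : M ⧸ W) ∈ V
  · have hy1 : (y : M ⧸ W) ≠ 1 := fun e => by
      rw [show y = 1 from Subtype.ext e, map_one] at hy
      norm_num at hy
    obtain ⟨c, hc⟩ := F.quot.trans _ hyV hy1
    have hfib : fib (W := W) (χ : G → ℂ) y = fib (W := W) (χ : G → ℂ) (q (t * 1)) := by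
      rw [← hc, mul_one]
      exact isClassFunction_fib hcl (q t) c
    rw [hfib, F.fib_eq (h := 1) (by rw [one_mul, mul_one]) (by simp) hcl]
    constructor
    · intro hχ _
      rw [Finset.sum_congr rfl (g := fun _ => (χ : G → ℂ) t) fun o _ => by
        rw [OneMemClass.coe_one, mul_one]
        exact apply_shift_const hI hu F.solv hχ o.2, Finset.sum_const, Finset.card_univ,
        nsmul_eq_mul, ← F.r_mul_card_core, ← Nat.card_eq_fintype_card]
      push_cast
      ring
    · intro hχ
      rw [sum_shift_eq_zero hI hu F.solv hχ (by simp) (by simp), mul_zero]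
  · refine ⟨fun _ h => absurd h hyV, fun hχ => ?_⟩
    have hy3 := (L.eps_one_or_mem hy).resolve_left hyV
    obtain ⟨m, hm, hqm⟩ := F.exists_lift_centralizer (QData.mem_Y.1 y.2)
    have hodd : Odd (orderOf (m ^ 16)) := by
      refine ((by decide : Odd 21).mul F.W_odd).of_dvd_nat (orderOf_dvd_iff_pow_eq_one.2 ?_)
      rw [← pow_mul, show 16 * (21 * Nat.card W) = Nat.card M * 2 by rw [F.card_M]; ring, pow_mul,
        pow_card_eq_one', one_pow]
    have hy6 : (y : M ⧸ W) ^ 6 = 1 := by
      rw [show 6 = 3 * 2 from rfl, pow_mul, hy3, pow_two, ← map_mul, F.t_sq, map_one]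
    have hq : q (t * m ^ 16) = (y : M ⧸ W) := by
      rw [map_mul, map_pow, hqm]
      calc q t * (y : M ⧸ W) ^ 16 = (y : M ⧸ W) ^ 3 * (y : M ⧸ W) ^ 16 := by rw [hy3]
        _ = (y : M ⧸ W) := by rw [← pow_add, show 3 + 16 = 6 * 3 + 1 from rfl, pow_succ, pow_mul, hy6,
              one_pow, one_mul]
    rw [← hq, F.fib_eq ((show Commute m t from hm).pow_left 16).eq hodd hcl,
      sum_shift_eq_zero hI hu F.solv hχ
        (by exact congrArg Subtype.val ((show Commute t m from hm.symm).pow_right 16).eq)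
        (by rw [Subgroup.orderOf_coe]; exact fun h => by
              rw [Nat.odd_iff] at hodd; omega), mul_zero]

theorem conj_classInner (f g : G → ℂ) : conj (classInner f g) = classInner g f :=
  Char.classInner_conj_symm f g

/-- The pair sum of `Phi`. -/
theorem pair_sum (F : Frame M W V t) (L : LData V (QuotientGroup.mk' W t) ε θ) (k : ℕ) :
    ∑ᶠ p ∈ {p : G × G | IsConj (t : G) p.1 ∧ IsConj (t : G) p.2}, Phi ε θ k (p.1 * p.2)
      = (M.index : ℂ) * (336 * (r W t : ℂ) ^ 2) := by
  classical
  have := Fintype.ofFinite M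
  rw [Phi, S0849.result M {x : G | x ∈ M ∧ Even (orderOf x)} (fun x hx => hx.1)
    (fun h hh s hs => ⟨M.mul_mem (M.mul_mem hh hs.1) (M.inv_mem hh), by
      have e := MulEquiv.orderOf_eq (MulAut.conj h) s
      rw [MulAut.conj_apply] at e
      rw [e]; exact hs.2⟩)
    (fun g hg s hs h => hg (F.mem_of_conj_even hs.1 hs.2 h.1))
    (fun s hs => ⟨M.inv_mem hs.1, by rw [orderOf_inv]; exact hs.2⟩)
    (fun x => psi ε θ k (q x)) (isClassFunction_inflate (Char.indFun_isClassFunction _ _))
    (fun x hx => psi_eq_zero_of_odd_elt L k fun he => hx ⟨x.2, he⟩) t t F.t_two F.t_two]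
  congr 1
  let A := Finset.univ.filter (fun a : M => orderOf (a : G) = 2)
  let P := Finset.univ.filter (fun v : M ⧸ W => v ∈ V ∧ v ≠ 1)
  have hset : {p : M × M | IsConj (t : G) (p.1 : G) ∧ IsConj (t : G) (p.2 : G)}
      = ((A ×ˢ A : Finset (M × M)) : Set (M × M)) := by
    ext p
    simp only [Set.mem_ofPred_eq, A, Finset.coe_product, Set.mem_prod, Finset.coe_filter,
      Finset.mem_univ, true_and, F.isConj_iff_two]
  rw [hset, finsum_mem_coe_finset, Finset.sum_product]
  simp only [map_mul]
  have inner : ∀ a : M, ∑ b ∈ A, psi ε θ k (q a * q b) = r W t * ∑ w ∈ P, psi ε θ k (q a * w) :=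
    fun a => by convert F.fib_comp fun w => psi ε θ k (q a * w)
  have outer : ∑ a ∈ A, ∑ w ∈ P, psi ε θ k (q a * w)
      = r W t * ∑ v ∈ P, ∑ w ∈ P, psi ε θ k (v * w) := by
    convert F.fib_comp fun v => ∑ w ∈ P, psi ε θ k (v * w)
  rw [Finset.sum_congr rfl fun a _ => inner a, ← Finset.mul_sum, outer]
  have hP : P.card = 7 := by
    rw [← Fintype.card_subtype, ← Nat.card_eq_fintype_card]
    exact F.quot.card_nontrivial
  have hv : ∀ v ∈ P, ∑ w ∈ P, psi ε θ k (v * w) = 48 := by
    intro v hv
    have hv' := (Finset.mem_filter.1 hv).2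
    rw [← Finset.add_sum_erase _ _ hv, L.sq v hv'.1, L.psi_one, zero_add,
      Finset.sum_congr rfl (g := fun _ => (8 : ℂ)) fun w hw => ?_, Finset.sum_const,
      Finset.card_erase_of_mem hv, hP]
    · norm_num
    · have hw' := (Finset.mem_filter.1 (Finset.mem_of_mem_erase hw)).2
      refine L.psi_of_mem k (V.mul_mem hv'.1 hw'.1) fun e => (Finset.ne_of_mem_erase hw) ?_
      calc w = v * (v * w) := by rw [← mul_assoc, L.sq v hv'.1, one_mul]
        _ = v := by rw [e, mul_one]
  rw [Finset.sum_congr rfl hv, Finset.sum_const, hP]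
  push_cast
  ring

theorem false (F : Frame M W V t)
    (hlin : ∀ χ : IrrCharacter G, (χ : G → ℂ) 1 = 1 → (χ : G → ℂ) = fun _ => 1) : False := by
  classical
  obtain ⟨ε, θ, L⟩ := F.quot.exists_ldata
  obtain ⟨I, hI⟩ := CentralChar.exists_pModular 2
  have := Fintype.ofFinite M
  have := Fintype.ofFinite (IrrCharacter G)
  have := Fintype.ofFinite (Y (QuotientGroup.mk' W t))
  have hint : ∀ k, ∃ m : IrrCharacter G → ℤ, (Phi ε θ k = ∑ χ, (m χ : ℂ) • (χ : G → ℂ)) ∧
      (∀ χ : IrrCharacter G, classInner (Phi ε θ k) (χ : G → ℂ) = m χ) ∧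
      (∀ χ : IrrCharacter G, classInner (χ : G → ℂ) (Phi ε θ k) = m χ) := by
    intro k
    obtain ⟨m, h1, h2, -⟩ := Char.IsGeneralizedCharacter.exists_coeffs
      (isGeneralizedCharacter_Phi (ε := ε) (θ := θ) k)
    exact ⟨m, h1, h2, fun χ => by rw [← conj_classInner, h2, map_intCast]⟩
  choose m hexp hm hm' using hint
  -- scalar products
  have hinner : ∀ i j, (∑ χ, m i χ * m j χ : ℤ) = if (i + 2 * j) % 3 = 0 then 4 else 2 := by
    intro i j
    have h := F.classInner_Phi L i j
    conv_lhs at h => rw [hexp i]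
    rw [Char.classInner_sum_left] at h
    simp only [Char.classInner_smul_left, hm'] at h
    have h' : ((∑ χ, m i χ * m j χ : ℤ) : ℂ)
        = ((if (i + 2 * j) % 3 = 0 then 4 else 2 : ℤ) : ℂ) := by
      push_cast
      convert h using 1
    exact_mod_cast h'
  -- complex conjugation
  let c : IrrCharacter G → IrrCharacter G := fun χ =>
    ⟨fun g => conj ((χ : G → ℂ) g), Char.IsIrrCharacter.conj χ.2⟩
  have hcc : ∀ χ, c (c χ) = χ := fun χ => Subtype.ext (funext fun g => by simp [c])
  have hmc : ∀ i j, (∀ x, conj (Phi ε θ i x) = Phi ε θ j x) → ∀ χ, m j (c χ) = m i χ := by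
    intro i j hij χ
    have h := hm j (c χ)
    rw [show Phi ε θ j = fun x => conj (Phi ε θ i x) from (funext hij).symm] at h
    rw [classInner_conj_conj, hm i, map_intCast] at h
    exact_mod_cast h.symm
  have hm0c : ∀ χ, m 0 (c χ) = m 0 χ := hmc 0 0 (conj_Phi_zero L)
  have hm2 : ∀ χ, m 2 χ = m 1 (c χ) := fun χ => by
    rw [← hmc 1 2 (conj_Phi_one L) (c χ), hcc]
  -- the trivial character
  let o : IrrCharacter G := ⟨1, Char.isIrrCharacter_one⟩
  have hco : c o = o := Subtype.ext (funext fun g => by simp [c, o])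
  have hval : ∀ k χ, ((m k χ : ℤ) : ℂ) = (24 : ℂ)⁻¹ * (Nat.card W : ℂ)⁻¹ *
      ∑ y : Y (QuotientGroup.mk' W t), fib (W := W) (χ : G → ℂ) y * conj (phi ε θ k y) := by
    intro k χ
    rw [← hm' k χ, classInner_irr_Phi (Blocks.irr_class χ) k, classInner, F.quot.card_Y]
    push_cast
    ring
  have hW : (Nat.card W : ℂ) ≠ 0 := Nat.cast_ne_zero.2 Nat.card_pos.ne'
  have hfib1 : ∀ y : M ⧸ W, fib (W := W) (o : G → ℂ) y = Nat.card W := by
    intro y
    obtain ⟨a, rfl⟩ := QuotientGroup.mk'_surjective W y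
    simp only [fib, o, Pi.one_apply, Finset.sum_const, nsmul_eq_mul, mul_one]
    congr 1
    rw [← Fintype.card_subtype, ← Nat.card_eq_fintype_card]
    exact Nat.card_congr
      { toFun := fun x => ⟨a⁻¹ * x.1, QuotientGroup.eq.1 x.2.symm⟩
        invFun := fun w => ⟨a * w.1, by
          simp only [QuotientGroup.mk'_apply, QuotientGroup.mk_mul,
            (QuotientGroup.eq_one_iff (w : M)).2 w.2, mul_one]⟩
        left_inv := fun x => by ext; simp
        right_inv := fun w => by ext; simp }
  have heps : ∑ y : Y (QuotientGroup.mk' W t), ε y = 0 :=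
    sum_hom_eq_zero ε (a := ⟨_, QData.t_mem_Y⟩) (by rw [L.eps_t]; norm_num)
  have ho0 : m 0 o = 1 := by
    have h := hval 0 o
    simp only [hfib1, phi, pow_zero, mul_one, map_sub, map_one, L.conj_eps, ← Finset.mul_sum,
      Finset.sum_sub_distrib, heps, Finset.sum_const, Finset.card_univ, ← Nat.card_eq_fintype_card,
      F.quot.card_Y, sub_zero, nsmul_eq_mul] at h
    field_simp at h
    have h' : m 0 o * 24 = 24 := by exact_mod_cast h
    omega
  -- degrees
  have hd : ∀ χ : IrrCharacter G, ∃ n : ℕ, (χ : G → ℂ) 1 = n := fun χ =>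
    (Char.IsIrrCharacter.exists_degree χ.2).imp fun _ h => h.2
  choose d hd using hd
  have hd0 : ∀ χ, 0 < d χ := fun χ => Nat.pos_of_ne_zero fun e =>
    Char.IsIrrCharacter.apply_one_ne_zero χ.2 (by rw [hd, e, Nat.cast_zero])
  have hd1 : ∀ χ, d χ = 1 → χ = o := fun χ e =>
    Subtype.ext (hlin χ (by rw [hd, e, Nat.cast_one]))
  have hdo : d o = 1 := by
    have := hd o
    simp only [o, Pi.one_apply] at this
    exact_mod_cast this.symm
  have hdc : ∀ χ, d (c χ) = d χ := fun χ => by
    have := hd (c χ)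
    simp only [c, hd, Complex.conj_natCast] at this
    exact_mod_cast this.symm
  have hz : ∀ k, ∑ χ, m k χ * (d χ : ℤ) = 0 := fun k => by
    have h := congrFun (hexp k) 1
    rw [Phi_one L, Finset.sum_apply] at h
    simp only [Pi.smul_apply, smul_eq_mul, hd] at h
    exact_mod_cast h.symm
  -- values at `t`
  have hsum : ∀ χ : IrrCharacter G, (χ : G → ℂ) t = ((m 0 χ + m 1 χ + m 2 χ : ℤ) : ℂ) ∨
      ∀ k, m k χ = 0 := by
    intro χ
    by_cases hχ : χ ∈ principalBlock I G
    · left
      push_cast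
      rw [hval, hval, hval, ← mul_add, ← mul_add, ← Finset.sum_add_distrib,
        ← Finset.sum_add_distrib]
      have hterm : ∀ y : Y (QuotientGroup.mk' W t),
          fib (W := W) (χ : G → ℂ) y * conj (phi ε θ 0 y)
            + fib (W := W) (χ : G → ℂ) y * conj (phi ε θ 1 y)
            + fib (W := W) (χ : G → ℂ) y * conj (phi ε θ 2 y)
          = (3 * Nat.card W * (χ : G → ℂ) t) *
            (if (y : M ⧸ W) ∈ V then 1 - ε y else 0) := by
        intro y
        rw [← mul_add, ← mul_add, ← map_add, ← map_add, L.phi_sum]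
        by_cases hyV : (y : M ⧸ W) ∈ V
        · rw [if_pos hyV, if_pos hyV, map_mul, map_sub, map_one, map_ofNat, L.conj_eps]
          rcases L.eps_val y with e | e
          · rw [e]; ring
          · rw [(F.fib_irr L hI χ e).1 hχ hyV]; ring
        · rw [if_neg hyV, if_neg hyV, map_zero, mul_zero, mul_zero]
      have h8 : ∑ y : Y (QuotientGroup.mk' W t), (if (y : M ⧸ W) ∈ V then 1 - ε y else 0) = 8 := by
        have := Fintype.ofFinite (QData.VY V (QuotientGroup.mk' W t))
        rw [← Finset.sum_filter, Finset.sum_subtype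
          (p := (· ∈ QData.VY V (QuotientGroup.mk' W t))) _
          (fun y => by simp only [Finset.mem_filter, Finset.mem_univ, true_and]; rfl)
          (fun y => 1 - ε y), L.sum_one_sub_eps]
      rw [Finset.sum_congr rfl fun y _ => hterm y, ← Finset.mul_sum, h8]
      field_simp
      ring
    · right
      intro k
      have h := hval k χ
      rw [Finset.sum_eq_zero fun y _ => ?_, mul_zero] at h
      · exact_mod_cast h
      · rcases L.eps_val y with e | e
        · rw [phi, e, sub_self, zero_mul, map_zero, mul_zero]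
        · rw [(F.fib_irr L hI χ e).2 hχ, zero_mul]
  -- class multiplication
  have hn : 0 < M.index := Nat.pos_of_ne_zero Subgroup.index_ne_zero_of_finite
  have hK : ∀ k, ∑ χ, (m k χ : ℚ) * (m 0 χ + m 1 χ + m 1 (c χ)) ^ 2 / d χ
      = 48 / (7 * M.index) := by
    intro k
    have h := F.pair_sum L k
    rw [finsum_mem_eq_toFinset_sum] at h
    simp only [fun x : G => congrFun (hexp k) x, Finset.sum_apply, Pi.smul_apply, smul_eq_mul] at h
    rw [Finset.sum_comm] at h
    simp only [← Finset.mul_sum, ← finsum_mem_eq_toFinset_sum, sum_products, F.card_class] at h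
    have h' : (7 * (r W t : ℂ) * M.index) ^ 2 *
        (((∑ χ, (m k χ : ℚ) * (m 0 χ + m 1 χ + m 1 (c χ)) ^ 2 / d χ : ℚ)) : ℂ)
          = (M.index : ℂ) * (336 * (r W t : ℂ) ^ 2) := by
      rw [← h]
      push_cast
      rw [Finset.mul_sum]
      refine Finset.sum_congr rfl fun χ _ => ?_
      rw [← hm2, hd]
      rcases hsum χ with e | e
      · rw [e]; push_cast; ring
      · rw [e k]; push_cast; ring
    have hr : (r W t : ℂ) ≠ 0 := Nat.cast_ne_zero.2 F.r_pos.ne'
    have hn' : (M.index : ℂ) ≠ 0 := Nat.cast_ne_zero.2 hn.ne'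
    generalize (∑ χ, (m k χ : ℚ) * (m 0 χ + m 1 χ + m 1 (c χ)) ^ 2 / d χ) = K at h' ⊢
    have h3 : (K : ℂ) = ((48 / (7 * M.index) : ℚ) : ℂ) := by
      push_cast
      field_simp
      have h4 : (r W t : ℂ) ^ 2 * M.index * 7 * ((K : ℂ) * (7 * M.index) - 48) = 0 := by
        linear_combination h'
      rcases mul_eq_zero.1 h4 with e | e
      · simp [hr, hn'] at e
      · linear_combination e
    exact_mod_cast h3
  have ho1 : m 1 o = 0 := by
    have h := hval 1 o
    simp only [hfib1, ← Finset.mul_sum] at h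
    have h0 : ∑ y : Y (QuotientGroup.mk' W t), phi ε θ 1 y = 0 := by
      obtain ⟨y, hy⟩ : ∃ y, θ y ≠ 1 := by
        by_contra! hall
        have hle : Y (QuotientGroup.mk' W t) ≤ V := fun z hz => (L.theta_one ⟨z, hz⟩).1 (hall _)
        have := Subgroup.card_dvd_of_le hle
        rw [F.quot.cardV, F.quot.card_Y] at this
        norm_num at this
      simp only [phi, pow_one, sub_mul, one_mul, Finset.sum_sub_distrib, sum_hom_eq_zero θ hy]
      rw [show ∑ y, ε y * θ y = 0 from sum_hom_eq_zero (ε * θ) (a := ⟨_, QData.t_mem_Y⟩) (by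
        rw [MonoidHom.mul_apply, L.eps_t, (L.theta_one _).2 L.mem]; norm_num), sub_zero]
    rw [← map_sum, h0, map_zero, mul_zero, mul_zero] at h
    exact_mod_cast h
  refine no_coeffs hcc hco hd0 hd1 hdo hdc hn ho0 ho1 hm0c ?_ ?_ ?_ ?_ (hz 0) (hz 1) (hK 0) (hK 1)
  · simpa using hinner 0 0
  · simpa using hinner 1 1
  · simpa using hinner 0 1
  · have h := hinner 1 2
    simp only [hm2] at h
    simpa using h

end Frame

end Cfsg.Agent.EightAutomizer
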