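import Cfsg.Agent.Lib.EightAutomizer.Orbits
import Cfsg.Agent.Lib.EightAutomizer.Lift
import Cfsg.Agent.Lib.Solvable.Fitting
import Cfsg.Agent.Lib.Signalizer.Core
import Cfsg.Agent.Lib.Signalizer.GraphTrivial
import Cfsg.Agent.S0217

/-!
# The local frame of an automizer of order 21

`false_of_twentyone` : a simple group with solvable involution centralizers has no automizer of
order 21 on an elementary Sylow 2-subgroup of order eight.
-/

set_option autoImplicit false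

namespace Cfsg.Agent.EightAutomizer

open Cfsg
open scoped Pointwise

variable {G : Type*} [Group G] [Finite G]

/-- An involution centralizer is `O(C(a)) N_{C(a)}(S)`, and `C(S) ≤ S O(C(a))`. -/
theorem centralizer_decomp (S : Sylow 2 G) (hS : IsMulCommutative (S : Subgroup G)) {a : G}
    (ha : a ∈ (S : Subgroup G))
    (hsolv : Group.IsSolvable (Subgroup.centralizer ({a} : Set G))) :
    (∀ c ∈ Subgroup.centralizer ({a} : Set G),
      ∃ n ∈ Subgroup.normalizer ((S : Subgroup G) : Set G), ∃ o ∈ centralizerPPrimeCore 2 a,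
        c = n * o) ∧
    (∀ c ∈ Subgroup.centralizer ((S : Subgroup G) : Set G),
      ∃ s ∈ (S : Subgroup G), ∃ o ∈ centralizerPPrimeCore 2 a, c = s * o) := by
  haveI : Fact (Nat.Prime 2) := ⟨Nat.prime_two⟩
  haveI := hsolv
  haveI := hS
  set H := Subgroup.centralizer ({a} : Set G) with hH
  have hSH : (S : Subgroup G) ≤ H := fun s hs =>
    Subgroup.mem_centralizer_singleton_iff.2
      (congrArg Subtype.val (mul_comm' (⟨s, hs⟩ : (S : Subgroup G)) ⟨a, ha⟩))
  let P : Sylow 2 H := S.subtype hSH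
  have hP : (P : Subgroup H) = (S : Subgroup G).subgroupOf H := S.coe_subtype hSH
  set O := pPrimeCore 2 H with hO
  haveI hOn : O.Normal := Cores.pPrimeCore_normal 2 H
  set f := QuotientGroup.mk' O with hf
  have hsurj : Function.Surjective f := QuotientGroup.mk'_surjective O
  have h1 := Solvable.centralizer_pCore_le_of_isSolvable (G := H ⧸ O) (p := 2)
    (Cores.pPrimeCore_quotient_self 2)
  have hle : pCore 2 (H ⧸ O) ≤ (P : Subgroup H).map f := Cores.pCore_le_sylow (P.mapSurjective hsurj)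
  have hcent : ∀ c : H, (∀ s : H, (s : G) ∈ (S : Subgroup G) → (c : G) * s = s * c) →
      f c ∈ pCore 2 (H ⧸ O) := by
    intro c hc
    refine h1 (Subgroup.mem_centralizer_iff.2 fun z hz => ?_)
    obtain ⟨s, hs, rfl⟩ := hle hz
    rw [← map_mul, ← map_mul]
    refine congrArg f (Subtype.ext (hc s ?_).symm)
    rw [hP] at hs
    exact hs
  have hge : (P : Subgroup H).map f ≤ pCore 2 (H ⧸ O) := by
    rintro _ ⟨c, hc, rfl⟩
    refine hcent c fun s hs => ?_
    rw [hP] at hc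
    exact congrArg Subtype.val (mul_comm' (⟨(c : G), hc⟩ : (S : Subgroup G)) ⟨(s : G), hs⟩)
  have heq : (P : Subgroup H) ⊔ O = (pCore 2 (H ⧸ O)).comap f := by
    rw [← le_antisymm hge hle, Subgroup.comap_map_eq, QuotientGroup.ker_mk']
  haveI hN : ((P : Subgroup H) ⊔ O).Normal := heq ▸ (Cores.pCore_normal 2 _).comap f
  constructor
  · intro c hc
    have htop := Sylow.normalizer_sup_eq_top' (N := (P : Subgroup H) ⊔ O) P le_sup_left
    rw [← sup_assoc, sup_eq_left.2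
      (show (P : Subgroup H) ≤ Subgroup.normalizer (P : Set H) from Subgroup.le_normalizer)] at htop
    obtain ⟨n, hn, o, ho, e⟩ := Subgroup.mem_sup_of_normal_right.1
      (htop ▸ Subgroup.mem_top (⟨c, hc⟩ : H))
    refine ⟨n, ?_, o, ⟨o, ho, rfl⟩, (congrArg Subtype.val e).symm⟩
    refine Subgroup.mem_normalizer_iff.2 fun h => ⟨fun hh => ?_, fun hh => ?_⟩
    · have := (Subgroup.mem_normalizer_iff.1 hn ⟨h, hSH hh⟩).1
        (by rw [hP]; exact hh)
      rw [hP] at this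
      exact this
    · have h' : h ∈ H := by
        have := H.mul_mem (H.mul_mem (H.inv_mem n.2) (hSH hh)) n.2
        simpa [mul_assoc] using this
      have := (Subgroup.mem_normalizer_iff.1 hn ⟨h, h'⟩).2
        (by rw [hP]; exact hh)
      rw [hP] at this
      exact this
  · intro c hc
    have hcH : c ∈ H :=
      Subgroup.mem_centralizer_singleton_iff.2 (Subgroup.mem_centralizer_iff.1 hc a ha).symm
    have hmem : (⟨c, hcH⟩ : H) ∈ (P : Subgroup H) ⊔ O := by
      rw [heq, Subgroup.mem_comap]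
      exact hcent _ fun s hs => (Subgroup.mem_centralizer_iff.1 hc s hs).symm
    obtain ⟨s, hs, o, ho, e⟩ := Subgroup.mem_sup_of_normal_right.1 hmem
    rw [hP] at hs
    exact ⟨s, hs, o, ⟨o, ho, rfl⟩, (congrArg Subtype.val e).symm⟩

/-- A nonabelian simple group has no nontrivial linear characters. -/
theorem linear_eq_one [IsSimpleGroup G] (hG : ¬ IsMulCommutative G) (χ : IrrCharacter G)
    (h1 : (χ : G → ℂ) 1 = 1) : (χ : G → ℂ) = fun _ => 1 := by
  obtain ⟨f, hf⟩ := Char.exists_hom_of_degree_one (Char.IsIrrCharacter.isCharacter χ.2) h1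
  rcases f.normal_ker.eq_bot_or_eq_top with e | e
  · refine absurd ⟨⟨fun a b => ?_⟩⟩ hG
    have h : f (a * b * a⁻¹ * b⁻¹) = 1 := by
      simp only [map_mul]
      calc f a * f b * f a⁻¹ * f b⁻¹ = (f a * f a⁻¹) * (f b * f b⁻¹) := by ring
        _ = 1 := by rw [← map_mul, ← map_mul, mul_inv_cancel, mul_inv_cancel, map_one, one_mul]
    have h' : a * b * a⁻¹ * b⁻¹ = 1 := by
      rw [← Subgroup.mem_bot, ← e, MonoidHom.mem_ker]; exact h
    calc a * b = a * b * a⁻¹ * b⁻¹ * (b * a) := by group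
      _ = b * a := by rw [h', one_mul]
  · rw [← hf]
    funext g
    exact MonoidHom.mem_ker.1 (e ▸ Subgroup.mem_top g)

theorem false_of_twentyone [IsSimpleGroup G] (hG : ¬ IsMulCommutative G) (S : Sylow 2 G)
    (hS : Cfsg.IsElementaryAbelian 2 (S : Subgroup G)) (hS8 : Nat.card ↥(S : Subgroup G) = 8)
    (hC : ∀ t : G, orderOf t = 2 → Group.IsSolvable ↥(Subgroup.centralizer ({t} : Set G)))
    (htrans : ∀ x ∈ (S : Subgroup G), x ≠ 1 → ∀ y ∈ (S : Subgroup G), y ≠ 1 →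
      ∃ n ∈ Subgroup.normalizer ((S : Subgroup G) : Set G), n * x * n⁻¹ = y)
    (h21 : (Subgroup.centralizer ((S : Subgroup G) : Set G)).relIndex
        (Subgroup.normalizer ((S : Subgroup G) : Set G)) = 21) : False := by
  classical
  haveI : Fact (Nat.Prime 2) := ⟨Nat.prime_two⟩
  haveI := hS.1
  have := Fintype.ofFinite G
  set P := (S : Subgroup G) with hP
  set N := Subgroup.normalizer (P : Set G) with hN
  set Cs := Subgroup.centralizer (P : Set G) with hCs
  have hinv : ∀ a ∈ P, a ≠ 1 → orderOf a = 2 := fun a ha ha1 =>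
    orderOf_eq_prime (hS.2 a ha) ha1
  have hsolv : ∀ a ∈ P, a ≠ 1 → Group.IsSolvable ↥(Subgroup.centralizer ({a} : Set G)) :=
    fun a ha ha1 => hC a (hinv a ha ha1)
  -- the signalizer closure
  obtain ⟨⟨f1, f2, f3, f4⟩, f5⟩ := Signalizer.isSolvableSignalizerFunctor_core (p := 2) hS hsolv
  obtain ⟨hWodd, hWC⟩ := S0217.result (p := 2) P
    (fun a ha b hb => congrArg Subtype.val (mul_comm' (⟨a, ha⟩ : P) ⟨b, hb⟩))
    hS.2 (by rw [hP, hS8]; norm_num) (fun a => centralizerPPrimeCore 2 a) f1 f2 f3 f5 f4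
  set W := ⨆ a : {a : G // a ∈ P ∧ a ≠ 1}, centralizerPPrimeCore 2 (a : G) with hW
  have hθW : ∀ a ∈ P, a ≠ 1 → centralizerPPrimeCore 2 a ≤ W := fun a ha ha1 =>
    le_iSup (fun b : {a : G // a ∈ P ∧ a ≠ 1} => centralizerPPrimeCore 2 (b : G)) ⟨a, ha, ha1⟩
  have hWodd' : Odd (Nat.card W) := Nat.not_even_iff_odd.1 fun h => hWodd (even_iff_two_dvd.1 h)
  have hNW : N ≤ Subgroup.normalizer (W : Set G) := by
    refine Signalizer.le_normalizer_of_conj_mem fun n hn w hw => ?_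
    have hle : W.map (MulAut.conj n).toMonoidHom ≤ W := by
      rw [hW, Subgroup.map_iSup]
      refine iSup_le fun a => ?_
      rw [Signalizer.map_conj_centralizerPPrimeCore]
      exact hθW _ ((Subgroup.mem_normalizer_iff.1 hn _).1 a.2.1) (fun e => a.2.2 (by simpa using e))
    exact hle ⟨w, hw, rfl⟩
  have hdisj : ∀ x ∈ P, x ∈ W → x = 1 := fun x hx hxW => by
    by_contra h
    have h2 := Subgroup.orderOf_dvd_natCard W hxW
    rw [hinv x hx h] at h2
    exact hWodd h2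
  set M := W ⊔ N with hM
  have hPN : P ≤ N := Subgroup.le_normalizer
  have hWM : W ≤ M := le_sup_left
  have hNM : N ≤ M := le_sup_right
  have hPM : P ≤ M := hPN.trans hNM
  have hMW : M ≤ Subgroup.normalizer (W : Set G) := sup_le Subgroup.le_normalizer hNW
  haveI hW'n : (W.subgroupOf M).Normal := Cores.subgroupOf_normal_of_le_normalizer hMW
  -- decompositions
  have hdec : ∀ a ∈ P, a ≠ 1 → Subgroup.centralizer ({a} : Set G) ≤ M := by
    intro a ha ha1 c hc
    obtain ⟨n, hn, o, ho, rfl⟩ := (centralizer_decomp S hS.1 ha (hsolv a ha ha1)).1 c hc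
    exact M.mul_mem (hNM hn) (hWM (hθW a ha ha1 ho))
  have h8 : ∃ t ∈ P, t ≠ 1 := by
    by_contra! h
    have : P = ⊥ := (Subgroup.eq_bot_iff_forall _).2 h
    rw [this, Subgroup.card_bot] at hS8
    omega
  obtain ⟨t₀, ht₀, ht₀1⟩ := h8
  have htop : M ≠ ⊤ := by
    intro htop
    have hWn : W.Normal := Subgroup.normalizer_eq_top_iff.1 (top_le_iff.1 (htop ▸ hMW))
    rcases hWn.eq_bot_or_eq_top with e | e
    · have hNtop : N = ⊤ := by rw [← htop, hM, e, bot_sup_eq]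
      have hPn : P.Normal := Subgroup.normalizer_eq_top_iff.1 hNtop
      rcases hPn.eq_bot_or_eq_top with e' | e'
      · exact ht₀1 (Subgroup.mem_bot.1 (e' ▸ ht₀))
      · exact hG ⟨⟨fun x y => congrArg Subtype.val
          (mul_comm' (⟨x, e' ▸ Subgroup.mem_top x⟩ : P) ⟨y, e' ▸ Subgroup.mem_top y⟩)⟩⟩
    · exact ht₀1 (hdisj t₀ ht₀ (e ▸ Subgroup.mem_top t₀))
  -- strong embedding
  let PM : Sylow 2 M := S.subtype hPM
  have hPM' : (PM : Subgroup M) = P.subgroupOf M := S.coe_subtype hPM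
  have hconjP : ∀ a ∈ M, orderOf a = 2 → ∃ m ∈ M, m * a * m⁻¹ ∈ P := by
    intro a ha ha2
    have hp : IsPGroup 2 (Subgroup.zpowers (⟨a, ha⟩ : M)) :=
      IsPGroup.of_card (n := 1) (by rw [Nat.card_zpowers, Subgroup.orderOf_mk, ha2, pow_one])
    obtain ⟨R, hR⟩ := hp.exists_le_sylow
    obtain ⟨m, hm⟩ := MulAction.exists_smul_eq M R PM
    refine ⟨m, m.2, ?_⟩
    have h1 : MulAut.conj m • (⟨a, ha⟩ : M) ∈ MulAut.conj m • (R : Subgroup M) :=
      Subgroup.smul_mem_pointwise_smul _ _ _ (hR (Subgroup.mem_zpowers _))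
    rw [← Sylow.coe_subgroup_smul] at h1
    change MulAut.conj m • (⟨a, ha⟩ : M) ∈ ((m • R : Sylow 2 M) : Subgroup M) at h1
    rw [hm, hPM'] at h1
    exact h1
  have hse : IsStronglyEmbedded M := by
    rw [Involution.isStronglyEmbedded_iff_forall]
    refine ⟨htop, even_iff_two_dvd.2 ?_, fun g a ha haM hg => ?_⟩
    · have := Subgroup.orderOf_dvd_natCard M (hPM ht₀)
      rwa [hinv t₀ ht₀ ht₀1] at this
    · obtain ⟨m₁, hm₁, e₁⟩ := hconjP a haM ha
      have ho : orderOf (g * a * g⁻¹) = 2 := by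
        rw [← ha]; simpa using MulEquiv.orderOf_eq (MulAut.conj g) a
      obtain ⟨m₂, hm₂, e₂⟩ := hconjP _ hg ho
      have hne : ∀ {y m : G}, orderOf y = 2 → m * y * m⁻¹ ≠ 1 := fun {y m} hy e => by
        have : y = 1 := by simpa using e
        rw [this, orderOf_one] at hy
        norm_num at hy
      obtain ⟨n, hn, e⟩ := htrans _ e₁ (hne ha) _ e₂ (hne ho)
      have hc : m₂ * g * m₁⁻¹ * n⁻¹ ∈ M := by
        refine hdec _ e₂ (hne ho) (Subgroup.mem_centralizer_singleton_iff.2 ?_)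
        calc m₂ * g * m₁⁻¹ * n⁻¹ * (m₂ * (g * a * g⁻¹) * m₂⁻¹)
            = m₂ * g * m₁⁻¹ * n⁻¹ * (n * (m₁ * a * m₁⁻¹) * n⁻¹) := by rw [e]
          _ = m₂ * (g * a * g⁻¹) * m₂⁻¹ * (m₂ * g * m₁⁻¹ * n⁻¹) := by group
      have h2 := M.mul_mem (M.mul_mem (M.mul_mem (M.inv_mem hm₂) hc) (hNM hn)) hm₁
      simpa [mul_assoc] using h2
  -- the quotient
  set W' := W.subgroupOf M with hW'
  let q := QuotientGroup.mk' W'
  let j : N →* M := Subgroup.inclusion hNM
  let h : N →* M ⧸ W' := q.comp j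
  have hq1 : ∀ {x : M}, q x = 1 ↔ (x : G) ∈ W := fun {x} => by
    rw [QuotientGroup.mk'_apply, QuotientGroup.eq_one_iff, Subgroup.mem_subgroupOf]
  have hsurj : Function.Surjective h := by
    intro y
    obtain ⟨m, rfl⟩ := QuotientGroup.mk'_surjective W' y
    have hsup : (⊤ : Subgroup M) = W' ⊔ N.subgroupOf M := by
      rw [hW', ← Subgroup.subgroupOf_sup hWM hNM, Subgroup.subgroupOf_self]
    obtain ⟨w, hw, n, hn, e⟩ := Subgroup.mem_sup_of_normal_left.1 (hsup ▸ Subgroup.mem_top m)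
    refine ⟨⟨n, hn⟩, ?_⟩
    show q ⟨(n : G), _⟩ = q m
    rw [← e, map_mul, show q w = 1 from (QuotientGroup.eq_one_iff w).2 hw, one_mul]
  have hcomm : ∀ {n : G}, n ∈ N → ∀ {v : G}, v ∈ P → n * v * n⁻¹ * v⁻¹ ∈ W → n * v = v * n := by
    intro n hn v hv hw
    have := hdisj _ (P.mul_mem ((Subgroup.mem_normalizer_iff.1 hn v).1 hv) (P.inv_mem hv)) hw
    rw [mul_inv_eq_one] at this
    calc n * v = n * v * n⁻¹ * n := by group
      _ = v * n := by rw [this]
  have hker : h.ker ≤ Cs.subgroupOf N := by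
    intro n hn
    have hnW : ((n : N) : G) ∈ W := hq1.1 (MonoidHom.mem_ker.1 hn)
    rw [Subgroup.mem_subgroupOf, Subgroup.mem_centralizer_iff]
    intro v hv
    refine (hcomm n.2 hv ?_).symm
    have h1 : v * ((n : N) : G)⁻¹ * v⁻¹ ∈ W :=
      (Subgroup.mem_normalizer_iff.1 (hNW (hPN hv)) _).1 (W.inv_mem hnW)
    have h2 := W.mul_mem hnW h1
    simpa [mul_assoc] using h2
  let V := (P.subgroupOf N).map h
  have hPCs : P ≤ Cs := Subgroup.le_centralizer P
  have hCsN : Cs ≤ N := fun c hc => Subgroup.centralizer_le_normalizer _ hc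
  have hmapCs : (Cs.subgroupOf N).map h = V := by
    refine le_antisymm ?_ (Subgroup.map_mono (show P.subgroupOf N ≤ Cs.subgroupOf N from fun x hx => hPCs hx))
    rintro _ ⟨c, hc, rfl⟩
    obtain ⟨s, hs, o, ho, e⟩ :=
      (centralizer_decomp S hS.1 ht₀ (hsolv t₀ ht₀ ht₀1)).2 c hc
    refine ⟨⟨s, hPN hs⟩, hs, ?_⟩
    symm
    show q ⟨(c : G), _⟩ = q ⟨s, _⟩
    rw [show (⟨(c : G), hNM c.2⟩ : M) = ⟨s, hPM hs⟩ * ⟨o, hWM (hθW t₀ ht₀ ht₀1 ho)⟩ from
      Subtype.ext e, map_mul, show q ⟨o, hWM (hθW t₀ ht₀ ht₀1 ho)⟩ = 1 from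
      hq1.2 (hθW t₀ ht₀ ht₀1 ho), mul_one]
  have hinjP : ∀ {n : N}, (n : G) ∈ P → h n = 1 → n = 1 := fun {n} hn e =>
    Subtype.ext (hdisj _ hn (hq1.1 e))
  have hcardV : Nat.card V = 8 := by
    rw [← hS8]
    refine (Nat.card_congr (Equiv.ofBijective
      (fun x : P.subgroupOf N => (⟨h x, Subgroup.mem_map_of_mem h x.2⟩ : V)) ⟨?_, ?_⟩)).symm.trans
      (Cores.card_subgroupOf hPN)
    · intro x y e
      have e' : h x = h y := congrArg Subtype.val e
      have := hinjP (n := (x : N) * (y : N)⁻¹) (P.mul_mem x.2 (P.inv_mem y.2))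
        (by rw [map_mul, map_inv, e', mul_inv_cancel])
      exact Subtype.ext (mul_inv_eq_one.1 this)
    · rintro ⟨_, x, hx, rfl⟩
      exact ⟨⟨x, hx⟩, rfl⟩
  have hcardQ : Nat.card (M ⧸ W') = 168 := by
    have h1 := Cores.card_map_mul_ker h (Cs.subgroupOf N) hker
    have h2 := Cores.card_map_mul_ker h ⊤ le_top
    rw [hmapCs, hcardV, Cores.card_subgroupOf hCsN] at h1
    rw [Subgroup.map_top_of_surjective h hsurj, Subgroup.card_top, Subgroup.card_top,
      card_eq_relIndex_mul hCsN, h21, ← h1] at h2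
    have hk : 0 < Nat.card h.ker := Nat.card_pos
    exact Nat.eq_of_mul_eq_mul_right hk (by rw [h2]; ring)
  have hVn : V.Normal := by
    refine Subgroup.Normal.map ?_ h hsurj
    exact Cores.subgroupOf_normal_of_le_normalizer le_rfl
  have quot : QData V (q ⟨t₀, hPM ht₀⟩) := by
    refine ⟨hcardQ, hcardV, hVn, ?_, ?_, ⟨⟨t₀, hPN ht₀⟩, ht₀, rfl⟩, ?_, ?_⟩
    · rintro _ ⟨x, hx, rfl⟩
      rw [← map_mul, show x * x = 1 from Subtype.ext (by
        rw [Subgroup.coe_mul, ← pow_two]; exact hS.2 _ hx), map_one]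
    · intro y hy
      obtain ⟨n, rfl⟩ := hsurj y
      rw [← hmapCs]
      refine Subgroup.mem_map_of_mem h (Subgroup.mem_subgroupOf.2
        (Subgroup.mem_centralizer_iff.2 fun v hv => ?_))
      refine (hcomm n.2 hv ?_).symm
      have e := hy _ (Subgroup.mem_map_of_mem h (show (⟨v, hPN hv⟩ : N) ∈ P.subgroupOf N from hv))
      rw [← map_mul, ← map_mul] at e
      have e1 : h (n * ⟨v, hPN hv⟩ * n⁻¹ * (⟨v, hPN hv⟩ : N)⁻¹) = 1 := by
        rw [map_mul, map_mul, e, ← map_mul, ← map_mul, mul_inv_cancel_right, mul_inv_cancel,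
          map_one]
      exact hq1.1 e1
    · exact fun e => ht₀1 (hdisj _ ht₀ (hq1.1 e))
    · rintro _ ⟨x, hx, rfl⟩ hne
      have hx1 : (x : G) ≠ 1 := fun e => hne (by rw [show x = 1 from Subtype.ext e, map_one])
      obtain ⟨n, hn, e⟩ := htrans t₀ ht₀ ht₀1 x hx hx1
      refine ⟨h ⟨n, hn⟩, ?_⟩
      show h ⟨n, hn⟩ * h ⟨t₀, hPN ht₀⟩ * (h ⟨n, hn⟩)⁻¹ = h x
      rw [← map_inv, ← map_mul, ← map_mul]
      exact congrArg h (Subtype.ext e)
  refine Frame.false (M := M) (W := W') (V := V) (t := ⟨t₀, hPM ht₀⟩)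
    ⟨hse, ?_, quot, hinv t₀ ht₀ ht₀1, hsolv t₀ ht₀ ht₀1, fun x => ?_⟩ (linear_eq_one hG)
  · rw [Cores.card_subgroupOf hWM]; exact hWodd'
  · constructor
    · intro hx
      exact ⟨hWM (hθW t₀ ht₀ ht₀1 hx), hθW t₀ ht₀ ht₀1 hx,
        Subgroup.mem_centralizer_singleton_iff.1 (f1 t₀ ht₀ ht₀1 hx)⟩
    · rintro ⟨hxM, hxW, hxt⟩
      rw [← hWC t₀ ht₀ ht₀1]
      exact ⟨hxW, Subgroup.mem_centralizer_singleton_iff.2 hxt⟩

end Cfsg.Agent.EightAutomizer
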