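import Cfsg.Agent.EqLemmas
import Mathlib.GroupTheory.Sylow
import Mathlib.GroupTheory.Transfer
import Mathlib.GroupTheory.Index
import Cfsg.Prelude.Def_Transfer
import Mathlib.GroupTheory.Subgroup.Simple

/-!
# The automizer of an elementary Sylow 2-subgroup of order eight in a simple group

`automizer_cases` : it acts transitively on the seven involutions and has order 7 or 21.
-/

set_option autoImplicit false

namespace Cfsg.Agent.EightAutomizer

variable {G : Type*} [Group G]

section orbit

variable [Fintype G]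

open scoped Classical in
/-- The orbit of `x` under conjugation by `H`. -/
noncomputable def orb (H : Subgroup G) (x : G) : Finset G :=
  (Finset.univ.filter (fun n => n ∈ H)).image fun n => n * x * n⁻¹

theorem mem_orb {H : Subgroup G} {x y : G} : y ∈ orb H x ↔ ∃ n ∈ H, n * x * n⁻¹ = y := by
  classical
  simp [orb]

theorem self_mem_orb {H : Subgroup G} (x : G) : x ∈ orb H x := mem_orb.2 ⟨1, H.one_mem, by simp⟩

theorem disjoint_orb {H : Subgroup G} {x y : G} (h : y ∉ orb H x) : Disjoint (orb H x) (orb H y) := by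
  refine Finset.disjoint_left.2 fun z hx hy => h ?_
  obtain ⟨n, hn, rfl⟩ := mem_orb.1 hx
  obtain ⟨m, hm, e⟩ := mem_orb.1 hy
  refine mem_orb.2 ⟨m⁻¹ * n, H.mul_mem (H.inv_mem hm) hn, ?_⟩
  calc m⁻¹ * n * x * (m⁻¹ * n)⁻¹ = m⁻¹ * (n * x * n⁻¹) * m := by group
    _ = y := by rw [← e]; group

theorem card_orb (H : Subgroup G) (x : G) :
    (orb H x).card * Nat.card ↥(H ⊓ Subgroup.centralizer ({x} : Set G)) = Nat.card H := by
  classical
  have hfib : ∀ b ∈ orb H x,
      ((Finset.univ.filter (fun n => n ∈ H)).filter fun n => n * x * n⁻¹ = b).card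
        = Nat.card ↥(H ⊓ Subgroup.centralizer ({x} : Set G)) := by
    intro b hb
    obtain ⟨m, hm, rfl⟩ := mem_orb.1 hb
    rw [Nat.card_eq_fintype_card, Fintype.card_of_subtype
      (Finset.univ.filter fun k => k ∈ H ⊓ Subgroup.centralizer ({x} : Set G)) (by simp)]
    refine Finset.card_nbij' (fun n => m⁻¹ * n) (fun k => m * k) ?_ ?_ ?_ ?_
    · intro n hn
      simp only [Finset.mem_coe, Finset.mem_filter, Finset.mem_univ, true_and] at hn ⊢
      refine ⟨H.mul_mem (H.inv_mem hm) hn.1, Subgroup.mem_centralizer_singleton_iff.2 ?_⟩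
      calc m⁻¹ * n * x = m⁻¹ * (n * x * n⁻¹) * n := by group
        _ = x * (m⁻¹ * n) := by rw [hn.2]; group
    · intro k hk
      simp only [Finset.mem_coe, Finset.mem_filter, Finset.mem_univ, true_and] at hk ⊢
      refine ⟨H.mul_mem hm hk.1, ?_⟩
      have e := Subgroup.mem_centralizer_singleton_iff.1 hk.2
      calc m * k * x * (m * k)⁻¹ = m * (k * x) * k⁻¹ * m⁻¹ := by group
        _ = m * x * m⁻¹ := by rw [e]; group
    · intro n _; group
    · intro k _; group
  rw [← smul_eq_mul, ← Finset.sum_const, ← Finset.sum_congr rfl hfib]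
  rw [Nat.card_eq_fintype_card, Fintype.card_subtype]
  exact (Finset.card_eq_sum_card_image _ _).symm

end orbit

variable [Finite G]

theorem card_eq_relIndex_mul {H K : Subgroup G} (h : H ≤ K) :
    Nat.card K = H.relIndex K * Nat.card H := by
  rw [← Nat.card_congr (Subgroup.subgroupOfEquivOfLe h).toEquiv, Subgroup.relIndex,
    Subgroup.index_mul_card]

/-- No nonidentity element of an abelian Sylow subgroup of a nonabelian simple group is central in
the normalizer. -/
theorem no_fixed [IsSimpleGroup G] (hG : ¬ IsMulCommutative G) {p : ℕ} [Fact p.Prime]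
    (S : Sylow p G) (hS : IsMulCommutative (S : Subgroup G)) {x : G} (hx : x ∈ (S : Subgroup G))
    (hx1 : x ≠ 1) :
    ∃ n ∈ Subgroup.normalizer ((S : Subgroup G) : Set G), n * x ≠ x * n := by
  by_contra! hall
  haveI := hS
  letI : CommGroup (S : Subgroup G) :=
    { (inferInstance : Group (S : Subgroup G)) with mul_comm := fun a b => mul_comm' a b }
  have key : ∀ (k : ℕ) (g₀ : G), g₀⁻¹ * x ^ k * g₀ ∈ (S : Subgroup G) →
      g₀⁻¹ * x ^ k * g₀ = x ^ k := by
    intro k g₀ h
    obtain ⟨n, hn, e⟩ := S.conj_eq_normalizer_conj_of_mem (x ^ k) g₀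
      ((S : Subgroup G).pow_mem hx k) h
    have hc : Commute n (x ^ k) := (show Commute n x from hall n hn).pow_right k
    rw [e, mul_assoc, ← hc.eq, inv_mul_cancel_left]
  set f := MonoidHom.transfer (MonoidHom.id (S : Subgroup G)) with hf
  have hfx : f x ≠ 1 := by
    rw [hf, MonoidHom.transfer_eq_pow _ x key]
    intro e
    have e' : x ^ (S : Subgroup G).index = 1 := congrArg Subtype.val e
    obtain ⟨k, hk⟩ := IsPGroup.iff_orderOf.1 S.isPGroup' ⟨x, hx⟩
    rw [Subgroup.orderOf_mk] at hk
    have hd := orderOf_dvd_iff_pow_eq_one.2 e'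
    rw [hk] at hd
    rcases Nat.eq_zero_or_pos k with rfl | hk0
    · exact hx1 (orderOf_eq_one_iff.1 (by simpa using hk))
    · exact S.not_dvd_index ((dvd_pow_self p hk0.ne').trans hd)
  rcases f.normal_ker.eq_bot_or_eq_top with e | e
  · refine hG ⟨⟨fun a b => (MonoidHom.ker_eq_bot_iff f).1 e ?_⟩⟩
    rw [map_mul, map_mul, mul_comm]
  · exact hfx (MonoidHom.mem_ker.1 (e ▸ Subgroup.mem_top x))

/-- The automizer is transitive on the involutions and has order 7 or 21. -/
theorem automizer_cases [IsSimpleGroup G] (hG : ¬ IsMulCommutative G) (S : Sylow 2 G)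
    (hS : Cfsg.IsElementaryAbelian 2 (S : Subgroup G)) (hS8 : Nat.card ↥(S : Subgroup G) = 8) :
    (∀ x ∈ (S : Subgroup G), x ≠ 1 → ∀ y ∈ (S : Subgroup G), y ≠ 1 →
      ∃ n ∈ Subgroup.normalizer ((S : Subgroup G) : Set G), n * x * n⁻¹ = y) ∧
    ((Subgroup.centralizer ((S : Subgroup G) : Set G)).relIndex
        (Subgroup.normalizer ((S : Subgroup G) : Set G)) = 7 ∨
      (Subgroup.centralizer ((S : Subgroup G) : Set G)).relIndex
        (Subgroup.normalizer ((S : Subgroup G) : Set G)) = 21) := by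
  classical
  haveI : Fact (Nat.Prime 2) := ⟨Nat.prime_two⟩
  have := Fintype.ofFinite G
  haveI := hS.1
  set P := (S : Subgroup G) with hP
  set N := Subgroup.normalizer (P : Set G) with hN
  set Cs := Subgroup.centralizer (P : Set G) with hCs
  have hPC : P ≤ Cs := Subgroup.le_centralizer P
  have hCN : Cs ≤ N := fun c hc => by
    refine Subgroup.mem_normalizer_iff.2 fun h => ⟨fun hh => ?_, fun hh => ?_⟩
    · rw [← Subgroup.mem_centralizer_iff.1 hc h hh, mul_inv_cancel_right]; exact hh
    · have e := Subgroup.mem_centralizer_iff.1 hc _ hh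
      rw [inv_mul_cancel_right] at e
      have e2 : h * c = c * h := mul_left_cancel (show c * (h * c) = c * (c * h) by
        calc c * (h * c) = c * (c * h * c⁻¹) * c * c⁻¹ * c := by rw [← e]; group
          _ = c * (c * h) := by group)
      rwa [← e2, mul_inv_cancel_right] at hh
  set r := Cs.relIndex N with hr
  have hrodd : Odd r := by
    have h1 : r ∣ P.index :=
      (Dvd.intro _ (Subgroup.relIndex_mul_index hCN)).trans (Subgroup.index_dvd_of_le hPC)
    refine (Nat.not_even_iff_odd.1 fun he => S.not_dvd_index ?_).of_dvd_nat h1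
    exact even_iff_two_dvd.1 he
  have hcN := card_eq_relIndex_mul hCN
  set T := Finset.univ.filter (fun x => x ∈ P ∧ x ≠ 1) with hT
  have hT7 : T.card = 7 := by
    have e : (Finset.univ.filter (fun x => x ∈ P)).erase 1 = T := by
      ext z; simp [hT, and_comm]
    have h8 : (Finset.univ.filter (fun x => x ∈ P)).card = 8 := by
      rw [← Fintype.card_subtype, ← Nat.card_eq_fintype_card]; exact hS8
    rw [← e, Finset.card_erase_of_mem (by simp [P.one_mem]), h8]
  -- orbits of the normalizer
  have hsub : ∀ {H : Subgroup G}, H ≤ N → ∀ {x : G}, x ∈ P → x ≠ 1 → orb H x ⊆ T := by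
    intro H hH x hx hx1 z hz
    obtain ⟨n, hn, rfl⟩ := mem_orb.1 hz
    simp only [hT, Finset.mem_filter, Finset.mem_univ, true_and]
    exact ⟨(Subgroup.mem_normalizer_iff.1 (hH hn) x).1 hx, fun e => hx1 (by simpa using e)⟩
  have hCx : ∀ {x : G}, x ∈ P → Cs ≤ Subgroup.centralizer ({x} : Set G) := fun {x} hx c hc =>
    Subgroup.mem_centralizer_singleton_iff.2 (Subgroup.mem_centralizer_iff.1 hc x hx).symm
  have hpos : 0 < Nat.card Cs := Nat.card_pos
  have horb : ∀ x ∈ P, x ≠ 1 → Odd (orb N x).card ∧ 3 ≤ (orb N x).card := by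
    intro x hx hx1
    have h1 := card_orb N x
    rw [card_eq_relIndex_mul (le_inf hCN (hCx hx)), hcN, ← mul_assoc] at h1
    have h2 := Nat.eq_of_mul_eq_mul_right hpos h1
    have hodd : Odd (orb N x).card := hrodd.of_dvd_nat ⟨_, h2.symm⟩
    refine ⟨hodd, ?_⟩
    obtain ⟨n, hn, hne⟩ := no_fixed hG S hS.1 hx hx1
    have h2c : 2 ≤ (orb N x).card := Finset.one_lt_card.2 ⟨x, self_mem_orb x, n * x * n⁻¹,
      mem_orb.2 ⟨n, hn, rfl⟩, fun e => hne (by conv_rhs => rw [e]
                                               group)⟩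
    rw [Nat.odd_iff] at hodd
    omega
  have htrans : ∀ x ∈ P, x ≠ 1 → orb N x = T := by
    intro x hx hx1
    by_contra hne
    obtain ⟨y, hyT, hy⟩ := Finset.exists_of_ssubset ((hsub le_rfl hx hx1).ssubset_of_ne hne)
    have hyP := (Finset.mem_filter.1 hyT).2
    obtain ⟨ox, cx⟩ := horb x hx hx1
    obtain ⟨oy, cy⟩ := horb y hyP.1 hyP.2
    have hd := disjoint_orb hy
    have hU : orb N x ∪ orb N y ⊆ T :=
      Finset.union_subset (hsub le_rfl hx hx1) (hsub le_rfl hyP.1 hyP.2)
    by_cases hT' : orb N x ∪ orb N y = T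
    · have := congrArg Finset.card hT'
      rw [Finset.card_union_of_disjoint hd, hT7] at this
      rw [Nat.odd_iff] at ox oy
      omega
    · obtain ⟨z, hzT, hz⟩ := Finset.exists_of_ssubset (hU.ssubset_of_ne hT')
      have hzP := (Finset.mem_filter.1 hzT).2
      obtain ⟨-, cz⟩ := horb z hzP.1 hzP.2
      simp only [Finset.mem_union, not_or] at hz
      have hd2 : Disjoint (orb N x ∪ orb N y) (orb N z) :=
        Finset.disjoint_union_left.2 ⟨disjoint_orb hz.1, disjoint_orb hz.2⟩
      have := Finset.card_le_card (Finset.union_subset hU (hsub le_rfl hzP.1 hzP.2))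
      rw [Finset.card_union_of_disjoint hd2, Finset.card_union_of_disjoint hd, hT7] at this
      omega
  refine ⟨fun x hx hx1 y hy hy1 => mem_orb.1 (htrans x hx hx1 ▸ by simp [hT, hy, hy1]), ?_⟩
  -- the stabilizer of an involution
  obtain ⟨x, hxT⟩ := Finset.card_pos.1 (show 0 < T.card by rw [hT7]; norm_num)
  obtain ⟨hx, hx1⟩ := (Finset.mem_filter.1 hxT).2
  set Nx := N ⊓ Subgroup.centralizer ({x} : Set G) with hNx
  have hCNx : Cs ≤ Nx := le_inf hCN (hCx hx)
  set e := Cs.relIndex Nx with he
  have hre : r = 7 * e := by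
    have h1 := card_orb N x
    rw [htrans x hx hx1, hT7, ← hNx, card_eq_relIndex_mul hCNx, hcN, ← mul_assoc] at h1
    exact (Nat.eq_of_mul_eq_mul_right hpos h1).symm
  have heodd : Odd e := hrodd.of_dvd_nat ⟨7, by rw [hre, mul_comm]⟩
  have hstab : ∀ y ∈ P, y ≠ 1 → y ≠ x → Nx ⊓ Subgroup.centralizer ({y} : Set G) = Cs := by
    intro y hy hy1 hyx
    refine le_antisymm (fun n hn => ?_) (le_inf hCNx (hCx hy))
    have hnN : n ∈ N := hn.1.1
    have hnx := Subgroup.mem_centralizer_singleton_iff.1 hn.1.2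
    have hny := Subgroup.mem_centralizer_singleton_iff.1 hn.2
    -- the subgroup of elements fixed by `n` has index at most two
    let K : Subgroup P := (Subgroup.centralizer ({n} : Set G)).subgroupOf P
    have hK : ∀ w : P, w ∈ K ↔ (w : G) * n = n * w := fun w => by
      rw [Subgroup.mem_subgroupOf, Subgroup.mem_centralizer_singleton_iff]
    have hsq2 : ∀ w : P, n ^ 2 * w = w * n ^ 2 := by
      by_cases hall : ∀ w : P, w ∈ K
      · intro w
        exact ((show Commute n (w : G) from ((hK w).1 (hall w)).symm).pow_left 2).eq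
      have hidx : K.index = 2 := by
        have hm := K.index_mul_card
        rw [hS8] at hm
        have h3 : 3 ≤ Nat.card K := by
          let a : Fin 3 → K := ![1, ⟨⟨x, hx⟩, (hK _).2 hnx.symm⟩, ⟨⟨y, hy⟩, (hK _).2 hny.symm⟩]
          have ha : Function.Injective a := by
            intro i j hij
            have e := congrArg (fun z : K => ((z : P) : G)) hij
            fin_cases i <;> fin_cases j <;>
              simp [a, hx1, Ne.symm hx1, hy1, Ne.symm hy1, hyx, Ne.symm hyx] at e ⊢
          simpa [Nat.card_eq_fintype_card] using Nat.card_le_card_of_injective a ha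
        have h1 : K.index ≠ 1 := fun e => hall fun w => by
          rw [Subgroup.index_eq_one.1 e]; exact Subgroup.mem_top w
        have hle : K.index ≤ 2 := by nlinarith
        interval_cases hi : K.index <;> simp_all
      intro w
      by_cases hw : w ∈ K
      · exact ((show Commute n (w : G) from ((hK w).1 hw).symm).pow_left 2).eq
      · let w' : P := ⟨n * w * n⁻¹, (Subgroup.mem_normalizer_iff.1 hnN _).1 w.2⟩
        have hw' : w' ∉ K := fun e => hw ((hK w).2 (by
          have e' := (hK w').1 e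
          simp only [w'] at e'
          calc (w : G) * n = n⁻¹ * (n * w * n⁻¹ * n) * n := by group
            _ = n⁻¹ * (n * (n * w * n⁻¹)) * n := by rw [e']
            _ = n * w := by group))
        obtain ⟨v, hv, ew⟩ : ∃ v : P, v ∈ K ∧ w' = v * w :=
          ⟨w' * w⁻¹, (Subgroup.mul_mem_iff_of_index_two hidx).2 (iff_of_false hw' (by simpa using hw)),
            by group⟩
        have ew' : n * (w : G) * n⁻¹ = v * w := congrArg Subtype.val ew
        have hv2 : (v : G) * v = 1 := by rw [← pow_two]; exact hS.2 v v.2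
        have hnv : n * (v : G) * n⁻¹ = v := by rw [← (hK v).1 hv, mul_inv_cancel_right]
        calc n ^ 2 * (w : G) = n * (n * w * n⁻¹) * n := by rw [pow_two]; group
          _ = n * (v * w) * n := by rw [ew']
          _ = (n * v * n⁻¹) * (n * w * n⁻¹) * (n * n) := by group
          _ = (v * v) * w * (n * n) := by rw [hnv, ew']; group
          _ = w * n ^ 2 := by rw [hv2, one_mul, pow_two]
    have h2 : n ^ 2 ∈ Cs := Subgroup.mem_centralizer_iff.2 fun w hw => (hsq2 ⟨w, hw⟩).symm
    haveI : (Cs.subgroupOf N).Normal := by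
      refine ⟨fun c hc m => ?_⟩
      rw [Subgroup.mem_subgroupOf, Subgroup.mem_centralizer_iff] at hc ⊢
      intro w hw
      have hmem : (m : G)⁻¹ * w * m ∈ P := by
        simpa using (Subgroup.mem_normalizer_iff.1 (N.inv_mem m.2) w).1 hw
      have e := hc _ hmem
      simp only [Subgroup.coe_mul, Subgroup.coe_inv]
      calc w * ((m : G) * c * (m : G)⁻¹) = m * (((m : G)⁻¹ * w * m) * c) * (m : G)⁻¹ := by group
        _ = m * (c * ((m : G)⁻¹ * w * m)) * (m : G)⁻¹ := by rw [e]
        _ = _ := by group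
    have hodd : n ^ r ∈ Cs := by
      have := (Cs.subgroupOf N).pow_index_mem ⟨n, hnN⟩
      rwa [Subgroup.mem_subgroupOf] at this
    obtain ⟨l, hl⟩ := hrodd
    rw [hl, pow_succ, pow_mul] at hodd
    have := Cs.mul_mem (Cs.inv_mem (Cs.pow_mem h2 l)) hodd
    rwa [inv_mul_cancel_left] at this
  have horbx : ∀ y ∈ P, y ≠ 1 → y ≠ x → (orb Nx y).card = e ∧ orb Nx y ⊆ T.erase x := by
    intro y hy hy1 hyx
    refine ⟨?_, fun z hz => Finset.mem_erase.2 ⟨?_, hsub inf_le_left hy hy1 hz⟩⟩
    · have h1 := card_orb Nx y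
      rw [hstab y hy hy1 hyx, card_eq_relIndex_mul hCNx] at h1
      exact Nat.eq_of_mul_eq_mul_right hpos h1
    · rintro rfl
      obtain ⟨n, hn, hnz⟩ := mem_orb.1 hz
      have hc := Subgroup.mem_centralizer_singleton_iff.1 hn.2
      refine hyx (mul_left_cancel (a := n) (mul_right_cancel (b := n⁻¹) ?_))
      rw [hnz, hc, mul_inv_cancel_right]
  have h6 : (T.erase x).card = 6 := by rw [Finset.card_erase_of_mem hxT, hT7]
  obtain ⟨y, hy⟩ := Finset.card_pos.1 (show 0 < (T.erase x).card by omega)
  obtain ⟨hyx, hyT⟩ := Finset.mem_erase.1 hy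
  obtain ⟨hyc, hys⟩ := horbx y (Finset.mem_filter.1 hyT).2.1 (Finset.mem_filter.1 hyT).2.2 hyx
  have hle := Finset.card_le_card hys
  have hns : orb Nx y ≠ T.erase x := fun h => by
    rw [h, h6] at hyc
    rw [← hyc] at heodd
    exact absurd heodd (by decide)
  obtain ⟨z, hz, hzn⟩ := Finset.exists_of_ssubset (hys.ssubset_of_ne hns)
  obtain ⟨hzx, hzT⟩ := Finset.mem_erase.1 hz
  obtain ⟨hzc, hzs⟩ := horbx z (Finset.mem_filter.1 hzT).2.1 (Finset.mem_filter.1 hzT).2.2 hzx
  have h2 := Finset.card_le_card (Finset.union_subset hys hzs)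
  rw [Finset.card_union_of_disjoint (disjoint_orb hzn), hyc, hzc, h6] at h2
  rw [Nat.odd_iff] at heodd
  omega

end Cfsg.Agent.EightAutomizer
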